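import Mathlib
import Cfsg.Agent.OddHalf.D4.FullPair

/-!
# ODD, D4, (1B): free pairs, definitions

`Good K S`: `S` is a 2-subgroup of `N(K)` containing a Sylow 2-subgroup of `K`. `zc K S = Z(S ∩ K)`, `cz K S` its
centralizer ("no field part"). `BFacts K`: the facts on `K` used in the free pair argument.
-/

set_option autoImplicit false

namespace Cfsg.Agent.OddHalf.D4.Free

open Cfsg Subgroup Cfsg.Agent.OddHalf.D4 Cfsg.Agent.OddHalf.D4.Basic
open Cfsg.Agent.OddHalf.D4.CommConj (Tight cj mem_cj cj_mul card_cj mem_cj_mul)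

variable {G : Type*} [Group G]

/-- a 2-subgroup of `N(K)` containing a Sylow 2-subgroup of `K` -/
structure Good (K S : Subgroup G) : Prop where
  two : IsPGroup 2 ↥S
  le : S ≤ normalizer (K : Set G)
  syl : IsSyl (S ⊓ K) K

/-- `Z(S ∩ K)` -/
def zc (K S : Subgroup G) : Subgroup G := (S ⊓ K) ⊓ centralizer ((S ⊓ K : Subgroup G) : Set G)

theorem mem_zc {K S : Subgroup G} {z : G} : z ∈ zc K S ↔ (z ∈ S ∧ z ∈ K) ∧ ∀ u ∈ S ⊓ K, u * z = z * u := by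
  unfold zc
  rw [mem_inf, mem_inf, mem_centralizer_iff]
  rfl

/-- the centralizer of `Z(S ∩ K)` -/
def cz (K S : Subgroup G) : Subgroup G := centralizer ((zc K S : Subgroup G) : Set G)

theorem mem_cz {K S : Subgroup G} {x : G} : x ∈ cz K S ↔ ∀ z ∈ zc K S, z * x = x * z := by
  unfold cz
  rw [mem_centralizer_iff]
  rfl

/-- `x` acts on `K` as an inner automorphism -/
def Inner (K : Subgroup G) (x : G) : Prop := ∃ c ∈ centralizer (K : Set G), ∃ k ∈ K, x = c * k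

/-- A line of `S ∩ K` relative to `D`; `star` for the involutions of `C_S(Z(S ∩ K))`. -/
structure IsLineF (K S D l : Subgroup G) : Prop where
  sq : ∀ x ∈ l, x * x ∈ D
  pair : ∃ a ∈ l, ∃ b ∈ l, a ∉ D ∧ b ∉ D ∧ a⁻¹ * b ∉ D
  star : ∀ y ∈ S, y ∈ cz K S → y * y = 1 → ∀ x ∈ l, x ∉ D → x * y = y * x → ∀ x' ∈ l, x' * y = y * x'

/-- (k5), one of four cases -/
def Out5 (K : Subgroup G) : Prop :=
  (∀ S, Good K S → ∀ e ∈ S, e ∉ cz K S →
    ∃ a ∈ zc K S, ∃ b ∈ zc K S, a * e ≠ e * a ∧ b * e ≠ e * b ∧ a * b * e ≠ e * (a * b)) ∨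
  (∀ S, Good K S → ∀ e ∈ S, e * e = 1 → e ∈ cz K S) ∨
  ((∀ S, Good K S → Nat.card ↥(zc K S) ≤ 4) ∧
    ∀ S, Good K S → ∃ W ≤ S ⊓ K, (∀ s ∈ S, ∀ w ∈ W, s * w * s⁻¹ ∈ W) ∧ (∀ w ∈ W, w * w = 1) ∧
      ∀ e ∈ S, e ∉ cz K S → e * e = 1 →
        ∃ a ∈ W, ∃ b ∈ W, a * e ≠ e * a ∧ b * e ≠ e * b ∧ a * b * e ≠ e * (a * b)) ∨
  ((∀ S, Good K S → Nat.card ↥(zc K S) ≤ 4) ∧
    ∀ S, Good K S → ∀ e ∈ S, e ∉ cz K S → e * e = 1 → ∀ k ∈ S ⊓ K, k ∉ zc K S → k * k = 1 → k * e = e * k →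
      ∃ a ∈ S ⊓ K, ∃ b ∈ S ⊓ K, a * k = k * a ∧ b * k = k * b ∧
        a * e ≠ e * a ∧ b * e ≠ e * b ∧ a⁻¹ * b * e ≠ e * (a⁻¹ * b))

/-- The facts on `K`, for all 2-subgroups `S` of `N(K)` containing a Sylow 2-subgroup of `K`. -/
structure BFacts (K : Subgroup G) : Prop where
  /-- (k0) -/
  sq : ∀ S, Good K S → ∀ z ∈ zc K S, z * z = 1
  /-- (k1) the field part of `S` is cyclic: an involution of `S / C_S(Z(S ∩ K))` is unique -/
  cyc : ∀ S, Good K S → ∀ a ∈ S, ∀ b ∈ S, a * a ∈ cz K S → b * b ∈ cz K S →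
    a ∈ cz K S ∨ b ∈ cz K S ∨ a⁻¹ * b ∈ cz K S
  /-- (k2) the field part of `e` is well defined -/
  field : ∀ S S₁, Good K S → Good K S₁ → ∀ e ∈ S₁, e ∈ cz K S → e ∈ cz K S₁
  /-- (k3) lines -/
  line : ∀ S, Good K S → ∀ P ≤ S, P ≤ cz K S → ¬ S ⊓ K ≤ P →
    ∃ D ≤ P, ∃ l ≤ S ⊓ K, l ≤ normalizer (P : Set G) ∧ ¬ l ≤ P ∧ IsLineF K S D l
  /-- (k4) the graph part has order at most two -/
  graph : ∀ S, Good K S → ∀ a ∈ S, ∀ b ∈ S, a ∈ cz K S → b ∈ cz K S →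
    Inner K a ∨ Inner K b ∨ Inner K (a⁻¹ * b)
  /-- (k5) -/
  out : Out5 K

/-! ### Elementary properties -/

theorem zc_le_S {K S : Subgroup G} : zc K S ≤ S := fun _ h => (mem_zc.mp h).1.1

theorem zc_le_K {K S : Subgroup G} : zc K S ≤ K := fun _ h => (mem_zc.mp h).1.2

theorem zc_comm {K S : Subgroup G} {x y : G} (hx : x ∈ zc K S) (hy : y ∈ zc K S) : x * y = y * x :=
  (mem_zc.mp hy).2 x (mem_zc.mp hx).1

theorem zc_le_cz {K S : Subgroup G} : zc K S ≤ cz K S := fun _ hx => mem_cz.mpr fun _ hz => zc_comm hz hx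

theorem inf_le_cz {K S : Subgroup G} : S ⊓ K ≤ cz K S :=
  fun _ hx => mem_cz.mpr fun _ hz => ((mem_zc.mp hz).2 _ hx).symm

theorem centralizer_le_cz {K S : Subgroup G} : centralizer (K : Set G) ≤ cz K S :=
  fun _ hc => mem_cz.mpr fun _ hz => mem_centralizer_iff.mp hc _ (zc_le_K hz)

theorem Inner.mul {K : Subgroup G} {x y : G} (hx : Inner K x) (hy : Inner K y) : Inner K (x * y) := by
  obtain ⟨c, hc, k, hk, rfl⟩ := hx
  obtain ⟨c', hc', k', hk', rfl⟩ := hy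
  refine ⟨c * c', mul_mem hc hc', k * k', mul_mem hk hk', ?_⟩
  have h1 : k * c' = c' * k := mem_centralizer_iff.mp hc' k hk
  calc c * k * (c' * k') = c * (k * c') * k' := by group
    _ = c * (c' * k) * k' := by rw [h1]
    _ = c * c' * (k * k') := by group

theorem Inner.inv {K : Subgroup G} {x : G} (hx : Inner K x) : Inner K x⁻¹ := by
  obtain ⟨c, hc, k, hk, rfl⟩ := hx
  refine ⟨c⁻¹, inv_mem hc, k⁻¹, inv_mem hk, ?_⟩
  have h1 : k⁻¹ * c⁻¹ = c⁻¹ * k⁻¹ := mem_centralizer_iff.mp (inv_mem hc) k⁻¹ (inv_mem hk)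
  rw [mul_inv_rev, h1]

theorem Inner.one {K : Subgroup G} : Inner K 1 := ⟨1, one_mem _, 1, one_mem _, by simp⟩

theorem Inner.of_K {K : Subgroup G} {x : G} (hx : x ∈ K) : Inner K x := ⟨1, one_mem _, x, hx, by simp⟩

theorem Inner.of_C {K : Subgroup G} {x : G} (hx : x ∈ centralizer (K : Set G)) : Inner K x :=
  ⟨x, hx, 1, one_mem _, by simp⟩

theorem Inner.conj {K : Subgroup G} (hn : ∀ m ∈ normalizer (K : Set G), ∀ c ∈ centralizer (K : Set G),
    m * c * m⁻¹ ∈ centralizer (K : Set G)) {m x : G} (hm : m ∈ normalizer (K : Set G)) (hx : Inner K x) :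
    Inner K (m * x * m⁻¹) := by
  obtain ⟨c, hc, k, hk, rfl⟩ := hx
  exact ⟨m * c * m⁻¹, hn m hm c hc, m * k * m⁻¹, (mem_normalizer_iff.mp hm k).mp hk, by group⟩

/-- `Z(S ∩ K)` is normalized by `S` -/
theorem zc_conj {K S : Subgroup G} (hS : S ≤ normalizer (K : Set G)) {s z : G} (hs : s ∈ S) (hz : z ∈ zc K S) :
    s * z * s⁻¹ ∈ zc K S := by
  rw [mem_zc] at hz ⊢
  refine ⟨⟨mul_mem (mul_mem hs hz.1.1) (inv_mem hs), (mem_normalizer_iff.mp (hS hs) z).mp hz.1.2⟩, ?_⟩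
  intro u hu
  have h1 : s⁻¹ * u * s ∈ S ⊓ K :=
    ⟨S.mul_mem (S.mul_mem (S.inv_mem hs) hu.1) hs, (mem_normalizer_iff''.mp (hS hs) u).mp hu.2⟩
  have h2 := hz.2 _ h1
  calc u * (s * z * s⁻¹) = s * (s⁻¹ * u * s * z) * s⁻¹ := by group
    _ = s * (z * (s⁻¹ * u * s)) * s⁻¹ := by rw [h2]
    _ = s * z * s⁻¹ * u := by group

/-- `C_S(Z(S ∩ K))` is normalized by `S` -/
theorem cz_conj {K S : Subgroup G} (hS : S ≤ normalizer (K : Set G)) {s x : G} (hs : s ∈ S) (hx : x ∈ cz K S) :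
    s * x * s⁻¹ ∈ cz K S := by
  rw [mem_cz] at hx ⊢
  intro z hz
  have h1 := zc_conj hS (inv_mem hs) hz
  rw [inv_inv] at h1
  have h2 := hx _ h1
  calc z * (s * x * s⁻¹) = s * (s⁻¹ * z * s * x) * s⁻¹ := by group
    _ = s * (x * (s⁻¹ * z * s)) * s⁻¹ := by rw [h2]
    _ = s * x * s⁻¹ * z := by group

theorem normalizer_norm {K : Subgroup G} : ∀ m ∈ normalizer (K : Set G), ∀ c ∈ centralizer (K : Set G),
    m * c * m⁻¹ ∈ centralizer (K : Set G) := by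
  intro m hm c hc
  rw [mem_centralizer_iff] at hc ⊢
  intro k hk
  have h1 : m⁻¹ * k * m ∈ K := (mem_normalizer_iff''.mp hm k).mp hk
  have h2 := hc _ h1
  calc k * (m * c * m⁻¹) = m * (m⁻¹ * k * m * c) * m⁻¹ := by group
    _ = m * (c * (m⁻¹ * k * m)) * m⁻¹ := by rw [h2]
    _ = m * c * m⁻¹ * k := by group

/-- a Sylow 2-subgroup of `N(K)` is good -/
theorem good_of_syl [Finite G] {K S : Subgroup G} (hS : IsSyl S (normalizer (K : Set G))) : Good K S :=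
  ⟨hS.two, hS.le, hS.inf le_normalizer hS.le⟩

theorem exists_good [Finite G] {K P : Subgroup G} (hP : IsPGroup 2 ↥P) (hle : P ≤ normalizer (K : Set G)) :
    ∃ S, Good K S ∧ P ≤ S := by
  obtain ⟨T, hT, hPT⟩ := exists_isSyl hP hle
  exact ⟨T, good_of_syl hT, hPT⟩

/-- a good subgroup contained in a 2-subgroup of `N(K)` -/
theorem Good.mono [Finite G] {K S T : Subgroup G} (h : Good K S) (hT : IsPGroup 2 ↥T) (hST : S ≤ T)
    (hTK : T ≤ normalizer (K : Set G)) : Good K T := by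
  refine ⟨hT, hTK, ?_⟩
  have h1 : T ⊓ K = S ⊓ K := by
    apply le_antisymm
    · exact h.syl.max _ (hT.to_le inf_le_left) (inf_le_inf_right K hST) inf_le_right
    · exact inf_le_inf_right K hST
  rw [h1]
  exact h.syl

/-- transport -/
theorem Good.cj [Finite G] {K S : Subgroup G} (h : Good K S) (g : G) : Good (CommConj.cj g K) (CommConj.cj g S) := by
  refine ⟨h.two.map _, ?_, ?_⟩
  · rw [normalizer_cj]
    exact map_mono h.le
  · have h1 : CommConj.cj g S ⊓ CommConj.cj g K = CommConj.cj g (S ⊓ K) := by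
      ext x
      simp only [mem_inf, mem_cj]
    rw [h1]
    exact h.syl.cj g

theorem zc_cj {K S : Subgroup G} (g : G) : zc (cj g K) (cj g S) = cj g (zc K S) := by
  ext x
  rw [mem_cj, mem_zc, mem_zc, mem_cj, mem_cj]
  constructor
  · rintro ⟨h1, h2⟩
    refine ⟨h1, fun u hu => ?_⟩
    have h3 := h2 (g * u * g⁻¹) ⟨mem_cj_mul hu.1, mem_cj_mul hu.2⟩
    calc u * (g⁻¹ * x * g) = g⁻¹ * (g * u * g⁻¹ * x) * g := by group
      _ = g⁻¹ * (x * (g * u * g⁻¹)) * g := by rw [h3]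
      _ = g⁻¹ * x * g * u := by group
  · rintro ⟨h1, h2⟩
    refine ⟨h1, fun u hu => ?_⟩
    have h3 := h2 (g⁻¹ * u * g) ⟨mem_cj.mp hu.1, mem_cj.mp hu.2⟩
    calc u * x = g * (g⁻¹ * u * g * (g⁻¹ * x * g)) * g⁻¹ := by group
      _ = g * (g⁻¹ * x * g * (g⁻¹ * u * g)) * g⁻¹ := by rw [h3]
      _ = x * u := by group

theorem cz_cj {K S : Subgroup G} (g : G) : cz (cj g K) (cj g S) = cj g (cz K S) := by
  unfold cz
  rw [zc_cj, centralizer_cj]

/-! ### Free pairs -/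

/-- `P` acts on `K` without field part -/
def Fr (K P : Subgroup G) : Prop := ∃ S, Good K S ∧ P ≤ S ∧ P ≤ cz K S

/-- A free pair. -/
structure FreePair (K L P : Subgroup G) : Prop where
  frK : Fr K P
  frL : Fr L P
  sylK : IsSyl (P ⊓ centralizer (K : Set G)) (centralizer (K : Set G))
  sylL : IsSyl (P ⊓ centralizer (L : Set G)) (centralizer (L : Set G))
  zK : ∃ S, Good K S ∧ zc K S ≤ P
  zL : ∃ S, Good L S ∧ zc L S ≤ P

theorem FreePair.symm {K L P : Subgroup G} (h : FreePair K L P) : FreePair L K P :=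
  ⟨h.frL, h.frK, h.sylL, h.sylK, h.zL, h.zK⟩

theorem Fr.two {K P : Subgroup G} (h : Fr K P) : IsPGroup 2 ↥P := by
  obtain ⟨S, hS, hPS, -⟩ := h
  exact hS.two.to_le hPS

theorem Fr.le {K P : Subgroup G} (h : Fr K P) : P ≤ normalizer (K : Set G) := by
  obtain ⟨S, hS, hPS, -⟩ := h
  exact hPS.trans hS.le

/-- by (k2) every good `S ≥ P` may be used -/
theorem Fr.le_cz {K P : Subgroup G} (hB : BFacts K) (h : Fr K P) {S : Subgroup G} (hS : Good K S) (hPS : P ≤ S) :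
    P ≤ cz K S := by
  obtain ⟨S₀, hS₀, _, hPz⟩ := h
  intro e he
  exact hB.field S₀ S hS₀ hS e (hPS he) (hPz he)

theorem FreePair.up {K L P P₁ : Subgroup G} (h : FreePair K L P) (hle : P ≤ P₁) (hK : Fr K P₁) (hL : Fr L P₁) :
    FreePair K L P₁ := by
  have key : ∀ C : Subgroup G, IsSyl (P ⊓ C) C → IsSyl (P₁ ⊓ C) C := by
    intro C hC
    have h1 : P₁ ⊓ C = P ⊓ C := by
      apply le_antisymm
      · exact hC.max _ (hK.two.to_le inf_le_left) (inf_le_inf_right C hle) inf_le_right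
      · exact inf_le_inf_right C hle
    rw [h1]; exact hC
  obtain ⟨S, hS, hzS⟩ := h.zK
  obtain ⟨T, hT, hzT⟩ := h.zL
  exact ⟨hK, hL, key _ h.sylK, key _ h.sylL, ⟨S, hS, hzS.trans hle⟩, ⟨T, hT, hzT.trans hle⟩⟩

theorem Fr.cj [Finite G] {K P : Subgroup G} (h : Fr K P) (g : G) : Fr (CommConj.cj g K) (CommConj.cj g P) := by
  obtain ⟨S, hS, hPS, hPz⟩ := h
  refine ⟨CommConj.cj g S, hS.cj g, map_mono hPS, ?_⟩
  rw [cz_cj]
  exact map_mono hPz

theorem FreePair.cj [Finite G] {K L P : Subgroup G} (h : FreePair K L P) (g : G) :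
    FreePair (CommConj.cj g K) (CommConj.cj g L) (CommConj.cj g P) := by
  have key : ∀ C : Subgroup G, IsSyl (P ⊓ C) C → IsSyl (CommConj.cj g P ⊓ CommConj.cj g C) (CommConj.cj g C) := by
    intro C hC
    have h1 : CommConj.cj g P ⊓ CommConj.cj g C = CommConj.cj g (P ⊓ C) := by
      ext x
      simp only [mem_inf, mem_cj]
    rw [h1]
    exact hC.cj g
  obtain ⟨S, hS, hzS⟩ := h.zK
  obtain ⟨T, hT, hzT⟩ := h.zL
  refine ⟨h.frK.cj g, h.frL.cj g, ?_, ?_, ⟨CommConj.cj g S, hS.cj g, ?_⟩, ⟨CommConj.cj g T, hT.cj g, ?_⟩⟩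
  · rw [centralizer_cj]; exact key _ h.sylK
  · rw [centralizer_cj]; exact key _ h.sylL
  · rw [zc_cj]; exact map_mono hzS
  · rw [zc_cj]; exact map_mono hzT

end Cfsg.Agent.OddHalf.D4.Free
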