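import Mathlib
import Cfsg.Agent.OddHalf.D4.Free.Defs

/-!
# ODD, D4, (1B): (k3) from a filtration

`FltS K S U L`: a filtration of `S ∩ K` generated by lines (`IsLineF`, star only for the involutions of
`C_S(Z(S ∩ K))`), on which `C_S(Z(S ∩ K))` acts trivially. It gives `BFacts.line`.

For graph automorphisms refine the height filtration: first `U (j+1)` together with the `X_r`, `r = τ r`, and the
diagonal lines `{x_r(t) x_τr(t)}`, then the lines `X_r`, `r ≠ τ r`.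
-/

set_option autoImplicit false

namespace Cfsg.Agent.OddHalf.D4.Free

open Cfsg Subgroup

variable {G : Type*} [Group G]

/-- A filtration of `S ∩ K` by lines; `C_S(Z(S ∩ K))` acts trivially on each line modulo the next term. -/
structure FltS (K S : Subgroup G) (U : ℕ → Subgroup G) (L : ℕ → Set (Subgroup G)) : Prop where
  zero : U 0 = S ⊓ K
  bot : ∃ n, U n = ⊥
  le : ∀ j, U (j + 1) ≤ U j
  gen : ∀ j, ∀ u ∈ U j, u ∈ closure ({x | ∃ l ∈ L j, x ∈ l} ∪ (U (j + 1) : Set G))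
  line_le : ∀ j, ∀ l ∈ L j, l ≤ U j
  line : ∀ j, ∀ l ∈ L j, IsLineF K S (U (j + 1)) l
  fix : ∀ j, ∀ l ∈ L j, ∀ x ∈ l, ∀ e ∈ S, e ∈ cz K S → e * x * e⁻¹ * x⁻¹ ∈ U (j + 1)

theorem FltS.le_zero {K S : Subgroup G} {U : ℕ → Subgroup G} {L : ℕ → Set (Subgroup G)} (h : FltS K S U L)
    (i : ℕ) : U i ≤ S ⊓ K := by
  induction i with
  | zero => exact h.zero.le
  | succ i ih => exact (h.le i).trans ih

/-- **(k3)** for one `S` -/
theorem FltS.k3 [Finite G] {K S P : Subgroup G} {U : ℕ → Subgroup G} {L : ℕ → Set (Subgroup G)}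
    (h : FltS K S U L) (hPS : P ≤ S) (hPZ : P ≤ cz K S) (hKP : ¬ S ⊓ K ≤ P) :
    ∃ D ≤ P, ∃ l ≤ S ⊓ K, l ≤ normalizer (P : Set G) ∧ ¬ l ≤ P ∧ IsLineF K S D l := by
  classical
  have hex : ∃ j, U j ≤ P := by
    obtain ⟨n, hn⟩ := h.bot
    exact ⟨n, by rw [hn]; exact bot_le⟩
  have h1 := Nat.find_spec hex
  have h2 : Nat.find hex ≠ 0 := by
    intro h0
    rw [h0, h.zero] at h1
    exact hKP h1
  obtain ⟨i, hi⟩ := Nat.exists_eq_succ_of_ne_zero h2
  rw [hi] at h1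
  have h3 : ¬ U i ≤ P := Nat.find_min hex (by omega)
  obtain ⟨l, hlL, hlP⟩ : ∃ l ∈ L i, ¬ l ≤ P := by
    by_contra hcon
    push Not at hcon
    apply h3
    intro u hu
    have h5 := h.gen i u hu
    have h6 : closure ({x | ∃ l ∈ L i, x ∈ l} ∪ (U (i + 1) : Set G)) ≤ P := by
      rw [closure_le]
      rintro x (⟨l, hl, hx⟩ | hx)
      · exact hcon l hl hx
      · exact h1 hx
    exact h6 h5
  refine ⟨U (i + 1), h1, l, (h.line_le i l hlL).trans (h.le_zero i), ?_, hlP, h.line i l hlL⟩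
  intro x hx
  apply mem_normalizer_fintype
  intro e he
  have h5 := h1 (h.fix i l hlL x hx e (hPS he) (hPZ he))
  have e1 : x * e * x⁻¹ = (e * x * e⁻¹ * x⁻¹)⁻¹ * e := by group
  rw [e1]
  exact mul_mem (inv_mem h5) he

/-- **`BFacts.line`** from filtrations -/
theorem line_of_fltS [Finite G] {K : Subgroup G} (h : ∀ S, Good K S → ∃ U L, FltS K S U L) :
    ∀ S, Good K S → ∀ P ≤ S, P ≤ cz K S → ¬ S ⊓ K ≤ P →
      ∃ D ≤ P, ∃ l ≤ S ⊓ K, l ≤ normalizer (P : Set G) ∧ ¬ l ≤ P ∧ IsLineF K S D l := by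
  intro S hS P hPS hPZ hKP
  obtain ⟨U, L, hU⟩ := h S hS
  exact hU.k3 hPS hPZ hKP

end Cfsg.Agent.OddHalf.D4.Free
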