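import Mathlib
import Cfsg.Agent.OddHalf.D4.Free.FiltLine

/-!
# ODD, D4, (1B): `BFacts` from facts on `Aut X`

`AFacts T`: `T` a Sylow 2-subgroup of the finite group `X`; all facts of `BFacts` for the 2-subgroups `A` of `Aut X`
normalizing `T` and containing the inner automorphisms of `T`. Transfer: `AFacts T`, `K ≅ X` ⟹ `BFacts K`.
-/

set_option autoImplicit false

namespace Cfsg.Agent.OddHalf.D4.Free

open Cfsg Subgroup Cfsg.Agent.OddHalf.D4 Cfsg.Agent.OddHalf.D4.Basic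

section Defs

variable {X : Type*} [Group X]

/-- `z ∈ Z(T)` -/
def InZ (T : Sylow 2 X) (z : X) : Prop := z ∈ T ∧ ∀ t ∈ T, t * z = z * t

/-- `e` centralizes `Z(T)` -/
def FixZ (T : Sylow 2 X) (e : MulAut X) : Prop := ∀ z, InZ T z → e z = z

/-- a 2-subgroup of `Aut X` normalizing `T` and containing `Inn T` -/
structure GoodA (T : Sylow 2 X) (A : Subgroup (MulAut X)) : Prop where
  two : IsPGroup 2 ↥A
  norm : ∀ a ∈ A, ∀ t ∈ T, a t ∈ T
  inn : ∀ t ∈ T, MulAut.conj t ∈ A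

/-- a filtration of `T` by lines, on which the elements of `A` centralizing `Z(T)` act trivially -/
structure FltA (T : Sylow 2 X) (A : Subgroup (MulAut X)) (U : ℕ → Subgroup X) (L : ℕ → Set (Subgroup X)) :
    Prop where
  zero : U 0 = T
  bot : ∃ n, U n = ⊥
  le : ∀ j, U (j + 1) ≤ U j
  gen : ∀ j, ∀ u ∈ U j, u ∈ closure ({x | ∃ l ∈ L j, x ∈ l} ∪ (U (j + 1) : Set X))
  line_le : ∀ j, ∀ l ∈ L j, l ≤ U j
  sq : ∀ j, ∀ l ∈ L j, ∀ x ∈ l, x * x ∈ U (j + 1)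
  pair : ∀ j, ∀ l ∈ L j, ∃ a ∈ l, ∃ b ∈ l, a ∉ U (j + 1) ∧ b ∉ U (j + 1) ∧ a⁻¹ * b ∉ U (j + 1)
  star : ∀ j, ∀ l ∈ L j, ∀ y ∈ A, FixZ T y → y * y = 1 → ∀ x ∈ l, x ∉ U (j + 1) → y x = x → ∀ x' ∈ l, y x' = x'
  fix : ∀ j, ∀ l ∈ L j, ∀ x ∈ l, ∀ e ∈ A, FixZ T e → e x * x⁻¹ ∈ U (j + 1)

/-- (k5) -/
def OutA (T : Sylow 2 X) : Prop :=
  (∀ A, GoodA T A → ∀ e ∈ A, ¬ FixZ T e →
    ∃ a b, InZ T a ∧ InZ T b ∧ e a ≠ a ∧ e b ≠ b ∧ e (a * b) ≠ a * b) ∨
  (∀ A, GoodA T A → ∀ e ∈ A, e * e = 1 → FixZ T e) ∨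
  (Nat.card {z : X // InZ T z} ≤ 4 ∧
    ∀ A, GoodA T A → ∃ W : Subgroup X, (∀ w ∈ W, w ∈ T) ∧ (∀ s ∈ A, ∀ w ∈ W, s w ∈ W) ∧ (∀ w ∈ W, w * w = 1) ∧
      ∀ e ∈ A, ¬ FixZ T e → e * e = 1 → ∃ a ∈ W, ∃ b ∈ W, e a ≠ a ∧ e b ≠ b ∧ e (a * b) ≠ a * b) ∨
  (Nat.card {z : X // InZ T z} ≤ 4 ∧
    ∀ A, GoodA T A → ∀ e ∈ A, ¬ FixZ T e → e * e = 1 → ∀ k ∈ T, ¬ InZ T k → k * k = 1 → e k = k →
      ∃ a ∈ T, ∃ b ∈ T, a * k = k * a ∧ b * k = k * b ∧ e a ≠ a ∧ e b ≠ b ∧ e (a⁻¹ * b) ≠ a⁻¹ * b)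

/-- The facts on `X`, for one Sylow 2-subgroup `T`. -/
structure AFacts (T : Sylow 2 X) : Prop where
  /-- (k0) -/
  sq : ∀ z, InZ T z → z * z = 1
  /-- (k1) -/
  cyc : ∀ A, GoodA T A → ∀ a ∈ A, ∀ b ∈ A, FixZ T (a * a) → FixZ T (b * b) → FixZ T a ∨ FixZ T b ∨ FixZ T (a⁻¹ * b)
  /-- (k2) -/
  field : ∀ A, GoodA T A → ∀ e ∈ A, ∀ g : X, (∀ z, InZ T z → e (g * z * g⁻¹) = g * z * g⁻¹) → FixZ T e
  /-- (k3) -/
  filt : ∀ A, GoodA T A → ∃ U L, FltA T A U L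
  /-- (k4) -/
  graph : ∀ A, GoodA T A → ∀ a ∈ A, ∀ b ∈ A, FixZ T a → FixZ T b →
    a ∈ (MulAut.conj : X →* MulAut X).range ∨ b ∈ (MulAut.conj : X →* MulAut X).range ∨
      a⁻¹ * b ∈ (MulAut.conj : X →* MulAut X).range
  /-- (k5) -/
  out : OutA T

end Defs

/-! ### Transfer -/

variable {G : Type*} [Group G] [Finite G] {X : Type*} [Group X]

/-- the chart adapted to `S` -/
structure Adapted (K S : Subgroup G) (T : Sylow 2 X) (f : X ≃* ↥K) : Prop where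
  iff : ∀ x : X, ((f x : ↥K) : G) ∈ S ↔ x ∈ T

theorem exists_adapted {K S : Subgroup G} (T : Sylow 2 X) (e : X ≃* ↥K) (hS : Good K S) :
    ∃ g : X, Adapted K S T ((MulAut.conj g).trans e) := by
  obtain ⟨P, hP⟩ := hS.syl.toSylow
  have hfin : Finite X := Finite.of_equiv _ e.symm.toEquiv
  -- the preimage of `S ∩ K`
  let P' : Sylow 2 X := P.comapOfInjective e.toMonoidHom e.injective (by
    rintro x -
    exact ⟨e.symm x, by simp⟩)
  obtain ⟨g, hg⟩ := MulAction.exists_smul_eq X T P'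
  refine ⟨g, ⟨fun x => ?_⟩⟩
  have h1 : ((e (g * x * g⁻¹) : ↥K) : G) ∈ S ↔ g * x * g⁻¹ ∈ P' := by
    have h2 : g * x * g⁻¹ ∈ P' ↔ e (g * x * g⁻¹) ∈ (P : Subgroup ↥K) := Iff.rfl
    rw [h2, hP, mem_subgroupOf, mem_inf]
    exact ⟨fun h => ⟨h, (e (g * x * g⁻¹)).2⟩, fun h => h.1⟩
  show ((e (MulAut.conj g x) : ↥K) : G) ∈ S ↔ x ∈ T
  rw [MulAut.conj_apply, h1, ← hg]
  show g * x * g⁻¹ ∈ ((g • T : Sylow 2 X) : Subgroup X) ↔ x ∈ T
  rw [Sylow.coe_subgroup_smul, Subgroup.mem_pointwise_smul_iff_inv_smul_mem]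
  show (MulAut.conj g)⁻¹ (g * x * g⁻¹) ∈ (T : Subgroup X) ↔ x ∈ T
  have h3 : (MulAut.conj g)⁻¹ (g * x * g⁻¹) = x := by
    rw [MulAut.conj_inv_apply]; group
  rw [h3]
  exact Iff.rfl

/-- the action of `N(K)` on `X` -/
def act {K : Subgroup G} (f : X ≃* ↥K) : ↥(normalizer (K : Set G)) →* MulAut X :=
  (MulAut.congr f.symm).toMonoidHom.comp K.normalizerMonoidHom

omit [Finite G] in
theorem f_act {K : Subgroup G} (f : X ≃* ↥K) (n : ↥(normalizer (K : Set G))) (x : X) :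
    ((f (act f n x) : ↥K) : G) = n * f x * (n : G)⁻¹ := by
  have h1 : act f n x = f.symm (K.normalizerMonoidHom n (f x)) := rfl
  rw [h1, MulEquiv.apply_symm_apply]
  rfl

/-- the image of `S` in `Aut X` -/
def img {K : Subgroup G} (f : X ≃* ↥K) (S : Subgroup G) : Subgroup (MulAut X) :=
  (S.subgroupOf (normalizer (K : Set G))).map (act f)

omit [Finite G] in
theorem good_img {K S : Subgroup G} {T : Sylow 2 X} {f : X ≃* ↥K} (hf : Adapted K S T f) (hS : Good K S) :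
    GoodA T (img f S) := by
  refine ⟨(hS.two.comap_subtype).map _, ?_, ?_⟩
  · rintro _ ⟨n, hn, rfl⟩ t ht
    rw [← hf.iff, f_act]
    have hn' : (n : G) ∈ S := mem_subgroupOf.mp hn
    exact mul_mem (mul_mem hn' ((hf.iff t).mpr ht)) (inv_mem hn')
  · intro t ht
    have h1 : ((f t : ↥K) : G) ∈ S := (hf.iff t).mpr ht
    refine ⟨⟨(f t : ↥K), le_normalizer (f t).2⟩, mem_subgroupOf.mpr h1, ?_⟩
    ext x
    apply f.injective
    apply Subtype.ext
    rw [f_act, MulAut.conj_apply, map_mul, map_mul, map_inv]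
    rfl

omit [Finite G] in
theorem act_mem {K S : Subgroup G} (f : X ≃* ↥K) (hS : Good K S) {s : G} (hs : s ∈ S) :
    act f ⟨s, hS.le hs⟩ ∈ img f S := ⟨⟨s, hS.le hs⟩, mem_subgroupOf.mpr hs, rfl⟩

omit [Finite G] in
/-- commuting with `s` -/
theorem act_eq_iff {K : Subgroup G} (f : X ≃* ↥K) (n : ↥(normalizer (K : Set G))) (x : X) :
    act f n x = x ↔ ((f x : ↥K) : G) * n = n * f x := by
  constructor
  · intro h
    have h1 := f_act f n x
    rw [h] at h1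
    calc ((f x : ↥K) : G) * n = n * f x * (n : G)⁻¹ * n := by rw [← h1]
      _ = n * f x := by group
  · intro h
    apply f.injective
    apply Subtype.ext
    rw [f_act, ← h]
    group

omit [Finite G] in
theorem act_ne_iff {K : Subgroup G} (f : X ≃* ↥K) (n : ↥(normalizer (K : Set G))) (x : X) :
    act f n x ≠ x ↔ ((f x : ↥K) : G) * n ≠ n * f x := not_congr (act_eq_iff f n x)

omit [Finite G] in
theorem inZ_iff {K S : Subgroup G} {T : Sylow 2 X} {f : X ≃* ↥K} (hf : Adapted K S T f) (x : X) :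
    InZ T x ↔ ((f x : ↥K) : G) ∈ zc K S := by
  rw [mem_zc]
  constructor
  · rintro ⟨hx, hc⟩
    refine ⟨⟨(hf.iff x).mpr hx, (f x).2⟩, fun u hu => ?_⟩
    have hu' := mem_inf.mp hu
    have h1 : f.symm ⟨u, hu'.2⟩ ∈ T := by
      rw [← hf.iff, MulEquiv.apply_symm_apply]
      exact hu'.1
    have h2 := congrArg (fun y => ((f y : ↥K) : G)) (hc _ h1)
    simpa using h2
  · rintro ⟨hx, hc⟩
    refine ⟨(hf.iff x).mp hx.1, fun t ht => ?_⟩
    apply f.injective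
    apply Subtype.ext
    rw [map_mul, map_mul]
    exact hc _ (mem_inf.mpr ⟨(hf.iff t).mpr ht, (f t).2⟩)

omit [Finite G] in
theorem fixZ_iff {K S : Subgroup G} {T : Sylow 2 X} {f : X ≃* ↥K} (hf : Adapted K S T f)
    (n : ↥(normalizer (K : Set G))) : FixZ T (act f n) ↔ (n : G) ∈ cz K S := by
  rw [mem_cz]
  constructor
  · intro h z hz
    have hzK : z ∈ K := zc_le_K hz
    have h1 : InZ T (f.symm ⟨z, hzK⟩) := by
      rw [inZ_iff hf, MulEquiv.apply_symm_apply]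
      exact hz
    have h2 := (act_eq_iff f n _).mp (h _ h1)
    rw [MulEquiv.apply_symm_apply] at h2
    exact h2
  · intro h z hz
    rw [act_eq_iff]
    exact h _ ((inZ_iff hf z).mp hz)

/-- the embedding of `X` in `G` -/
def emb {K : Subgroup G} (f : X ≃* ↥K) : X →* G := K.subtype.comp f.toMonoidHom

omit [Finite G] in
theorem emb_apply {K : Subgroup G} (f : X ≃* ↥K) (x : X) : emb f x = ((f x : ↥K) : G) := rfl

omit [Finite G] in
theorem emb_inj {K : Subgroup G} (f : X ≃* ↥K) : Function.Injective (emb f) :=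
  fun _ _ h => f.injective (Subtype.ext h)

omit [Finite G] in
theorem mem_map_emb {K : Subgroup G} (f : X ≃* ↥K) (H : Subgroup X) (x : X) :
    ((f x : ↥K) : G) ∈ H.map (emb f) ↔ x ∈ H := mem_map_iff_mem (emb_inj f)

omit [Finite G] in
/-- the filtration of `S ∩ K` -/
theorem fltS_of_fltA {K S : Subgroup G} {T : Sylow 2 X} {f : X ≃* ↥K} (hf : Adapted K S T f) (hS : Good K S)
    {U : ℕ → Subgroup X} {L : ℕ → Set (Subgroup X)} (h : FltA T (img f S) U L) :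
    FltS K S (fun j => (U j).map (emb f)) (fun j => {l | ∃ l₀ ∈ L j, l = l₀.map (emb f)}) := by
  constructor
  · ext x
    rw [h.zero, mem_inf]
    constructor
    · rintro ⟨t, ht, rfl⟩
      exact ⟨(hf.iff t).mpr ht, (f t).2⟩
    · rintro ⟨hxS, hxK⟩
      have h1 : emb f (f.symm ⟨x, hxK⟩) = x := by rw [emb_apply, MulEquiv.apply_symm_apply]
      refine ⟨f.symm ⟨x, hxK⟩, ?_, h1⟩
      show f.symm ⟨x, hxK⟩ ∈ T
      rw [← hf.iff, MulEquiv.apply_symm_apply]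
      exact hxS
  · obtain ⟨n, hn⟩ := h.bot
    exact ⟨n, by show (U n).map (emb f) = ⊥; rw [hn, Subgroup.map_bot]⟩
  · exact fun j => map_mono (h.le j)
  · rintro j _ ⟨u, hu, rfl⟩
    have h1 := h.gen j u hu
    have h2 : emb f u ∈ (closure ({x | ∃ l ∈ L j, x ∈ l} ∪ (U (j + 1) : Set X))).map (emb f) := ⟨u, h1, rfl⟩
    rw [MonoidHom.map_closure] at h2
    refine closure_mono ?_ h2
    rintro _ ⟨x, (⟨l, hl, hx⟩ | hx), rfl⟩
    · exact Or.inl ⟨l.map (emb f), ⟨l, hl, rfl⟩, ⟨x, hx, rfl⟩⟩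
    · exact Or.inr ⟨x, hx, rfl⟩
  · rintro j _ ⟨l, hl, rfl⟩
    exact map_mono (h.line_le j l hl)
  · rintro j _ ⟨l, hl, rfl⟩
    refine ⟨?_, ?_, ?_⟩
    · rintro _ ⟨x, hx, rfl⟩
      exact ⟨x * x, h.sq j l hl x hx, map_mul _ _ _⟩
    · obtain ⟨a, ha, b, hb, h1, h2, h3⟩ := h.pair j l hl
      refine ⟨emb f a, ⟨a, ha, rfl⟩, emb f b, ⟨b, hb, rfl⟩, ?_, ?_, ?_⟩
      · exact fun h' => h1 ((mem_map_emb f _ _).mp h')
      · exact fun h' => h2 ((mem_map_emb f _ _).mp h')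
      · intro h'
        rw [← map_inv, ← map_mul] at h'
        exact h3 ((mem_map_emb f _ _).mp h')
    · rintro y hyS hyc hy2 _ ⟨x, hx, rfl⟩ hxU hxy _ ⟨x', hx', rfl⟩
      have h1 : FixZ T (act f ⟨y, hS.le hyS⟩) := (fixZ_iff hf _).mpr hyc
      have h2 : act f ⟨y, hS.le hyS⟩ * act f ⟨y, hS.le hyS⟩ = 1 := by
        rw [← map_mul]
        have : (⟨y, hS.le hyS⟩ * ⟨y, hS.le hyS⟩ : ↥(normalizer (K : Set G))) = 1 := Subtype.ext hy2
        rw [this, map_one]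
      have h3 : x ∉ U (j + 1) := fun h' => hxU ⟨x, h', rfl⟩
      have h4 := h.star j l hl _ (act_mem f hS hyS) h1 h2 x hx h3 ((act_eq_iff f _ x).mpr hxy) x' hx'
      exact (act_eq_iff f _ x').mp h4
  · rintro j _ ⟨l, hl, rfl⟩ _ ⟨x, hx, rfl⟩ e heS hec
    have h1 : FixZ T (act f ⟨e, hS.le heS⟩) := (fixZ_iff hf _).mpr hec
    refine ⟨_, h.fix j l hl x hx _ (act_mem f hS heS) h1, ?_⟩
    rw [map_mul, map_inv]
    show ((f (act f ⟨e, hS.le heS⟩ x) : ↥K) : G) * ((f x : ↥K) : G)⁻¹ = e * f x * e⁻¹ * ((f x : ↥K) : G)⁻¹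
    rw [f_act]

omit [Finite G] in
theorem card_zc {K S : Subgroup G} {T : Sylow 2 X} {f : X ≃* ↥K} (hf : Adapted K S T f) :
    Nat.card ↥(zc K S) = Nat.card {z : X // InZ T z} := by
  refine Nat.card_congr ⟨fun z => ⟨f.symm ⟨z, zc_le_K z.2⟩, ?_⟩, fun x => ⟨f x, (inZ_iff hf _).mp x.2⟩, ?_, ?_⟩
  · rw [inZ_iff hf, MulEquiv.apply_symm_apply]
    exact z.2
  · intro z
    apply Subtype.ext
    simp
  · intro x
    apply Subtype.ext
    simp

/-- **Transfer.** -/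
theorem AFacts.bfacts {K : Subgroup G} {T : Sylow 2 X} (h : AFacts T) (e : X ≃* ↥K) : BFacts K := by
  have hex : ∀ S, Good K S → ∃ f : X ≃* ↥K, Adapted K S T f := fun S hS => by
    obtain ⟨g, hg⟩ := exists_adapted T e hS
    exact ⟨_, hg⟩
  have hmul : ∀ (f : X ≃* ↥K) (a b : ↥(normalizer (K : Set G))), act f a * act f b = act f (a * b) :=
    fun f a b => (map_mul _ _ _).symm
  refine ⟨?_, ?_, ?_, ?_, ?_, ?_⟩
  · -- (k0)
    intro S hS z hz
    obtain ⟨f, hf⟩ := hex S hS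
    have h1 : InZ T (f.symm ⟨z, zc_le_K hz⟩) := by
      rw [inZ_iff hf, MulEquiv.apply_symm_apply]; exact hz
    have h2 := congrArg (fun y => ((f y : ↥K) : G)) (h.sq _ h1)
    simpa using h2
  · -- (k1)
    intro S hS a ha b hb haa hbb
    obtain ⟨f, hf⟩ := hex S hS
    have h1 := h.cyc _ (good_img hf hS) _ (act_mem f hS ha) _ (act_mem f hS hb)
      (by rw [hmul]; exact (fixZ_iff hf _).mpr haa) (by rw [hmul]; exact (fixZ_iff hf _).mpr hbb)
    rw [← map_inv, hmul, fixZ_iff hf, fixZ_iff hf, fixZ_iff hf] at h1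
    exact h1
  · -- (k2)
    intro S S₁ hS hS₁ x hx hxc
    obtain ⟨f, hf⟩ := hex S₁ hS₁
    obtain ⟨g, hg⟩ := exists_adapted T f hS
    have h1 := h.field _ (good_img hf hS₁) _ (act_mem f hS₁ hx) g (by
      intro z hz
      rw [act_eq_iff]
      have h2 := (inZ_iff hg z).mp hz
      exact mem_cz.mp hxc _ h2)
    exact (fixZ_iff hf _).mp h1
  · -- (k3)
    refine line_of_fltS fun S hS => ?_
    obtain ⟨f, hf⟩ := hex S hS
    obtain ⟨U, L, hU⟩ := h.filt _ (good_img hf hS)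
    exact ⟨_, _, fltS_of_fltA hf hS hU⟩
  · -- (k4)
    intro S hS a ha b hb hac hbc
    obtain ⟨f, hf⟩ := hex S hS
    have key : ∀ n : ↥(normalizer (K : Set G)), act f n ∈ (MulAut.conj : X →* MulAut X).range → Inner K n := by
      rintro n ⟨x, hx⟩
      refine ⟨n * ((f x : ↥K) : G)⁻¹, ?_, f x, (f x).2, by group⟩
      rw [mem_centralizer_iff]
      intro k hk
      have h1 : ∀ y : X, (n : G) * f y * (n : G)⁻¹ = f x * f y * ((f x : ↥K) : G)⁻¹ := by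
        intro y
        rw [← f_act, ← hx, MulAut.conj_apply, map_mul, map_mul, map_inv]
        rfl
      have h2 := h1 (x⁻¹ * f.symm ⟨k, hk⟩ * x)
      have h3 : ((f (x⁻¹ * f.symm ⟨k, hk⟩ * x) : ↥K) : G) = ((f x : ↥K) : G)⁻¹ * k * f x := by
        rw [map_mul, map_mul, map_inv, MulEquiv.apply_symm_apply]; rfl
      rw [h3] at h2
      have h4 : (n : G) * (((f x : ↥K) : G)⁻¹ * k * f x) * (n : G)⁻¹ = k := by rw [h2]; group
      calc k * (n * ((f x : ↥K) : G)⁻¹) =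
            (n : G) * (((f x : ↥K) : G)⁻¹ * k * f x) * (n : G)⁻¹ * (n * ((f x : ↥K) : G)⁻¹) := by rw [h4]
        _ = n * ((f x : ↥K) : G)⁻¹ * k := by group
    have h1 := h.graph _ (good_img hf hS) _ (act_mem f hS ha) _ (act_mem f hS hb)
      ((fixZ_iff hf _).mpr hac) ((fixZ_iff hf _).mpr hbc)
    rw [← map_inv, hmul] at h1
    rcases h1 with h1 | h1 | h1
    · exact Or.inl (key _ h1)
    · exact Or.inr (Or.inl (key _ h1))
    · exact Or.inr (Or.inr (key _ h1))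
  · -- (k5)
    have hsq : ∀ (f : X ≃* ↥K) (S : Subgroup G) (hS : Good K S) (x : G) (hx : x ∈ S), x * x = 1 →
        act f ⟨x, hS.le hx⟩ * act f ⟨x, hS.le hx⟩ = 1 := by
      intro f S hS x hx hxx
      rw [hmul]
      have : (⟨x, hS.le hx⟩ * ⟨x, hS.le hx⟩ : ↥(normalizer (K : Set G))) = 1 := Subtype.ext hxx
      rw [this, map_one]
    rcases h.out with h1 | h1 | ⟨h0, h1⟩ | ⟨h0, h1⟩
    · refine Or.inl fun S hS x hx hxc => ?_
      obtain ⟨f, hf⟩ := hex S hS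
      obtain ⟨a, b, ha, hb, h2, h3, h4⟩ := h1 _ (good_img hf hS) _ (act_mem f hS hx)
        (fun h' => hxc ((fixZ_iff hf _).mp h'))
      rw [act_ne_iff] at h2 h3 h4
      refine ⟨f a, (inZ_iff hf a).mp ha, f b, (inZ_iff hf b).mp hb, h2, h3, ?_⟩
      rw [map_mul] at h4
      exact h4
    · refine Or.inr (Or.inl fun S hS x hx hxx => ?_)
      obtain ⟨f, hf⟩ := hex S hS
      exact (fixZ_iff hf _).mp (h1 _ (good_img hf hS) _ (act_mem f hS hx) (hsq f S hS x hx hxx))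
    · refine Or.inr (Or.inr (Or.inl ⟨fun S hS => ?_, fun S hS => ?_⟩))
      · obtain ⟨f, hf⟩ := hex S hS
        rw [card_zc hf]; exact h0
      · obtain ⟨f, hf⟩ := hex S hS
        obtain ⟨W, hWT, hWA, hW2, hW⟩ := h1 _ (good_img hf hS)
        refine ⟨W.map (emb f), ?_, ?_, ?_, ?_⟩
        · rintro _ ⟨w, hw, rfl⟩
          exact mem_inf.mpr ⟨(hf.iff w).mpr (hWT w hw), (f w).2⟩
        · rintro s hs _ ⟨w, hw, rfl⟩
          refine ⟨_, hWA _ (act_mem f hS hs) w hw, ?_⟩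
          show ((f (act f ⟨s, hS.le hs⟩ w) : ↥K) : G) = s * f w * s⁻¹
          rw [f_act]
        · rintro _ ⟨w, hw, rfl⟩
          rw [← map_mul, hW2 w hw, map_one]
        · intro x hx hxc hxx
          obtain ⟨a, ha, b, hb, h2, h3, h4⟩ := hW _ (act_mem f hS hx)
            (fun h' => hxc ((fixZ_iff hf _).mp h')) (hsq f S hS x hx hxx)
          rw [act_ne_iff] at h2 h3 h4
          rw [map_mul] at h4
          exact ⟨_, ⟨a, ha, rfl⟩, _, ⟨b, hb, rfl⟩, h2, h3, h4⟩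
    · refine Or.inr (Or.inr (Or.inr ⟨fun S hS => ?_, fun S hS x hx hxc hxx k hk hkz hkk hkx => ?_⟩))
      · obtain ⟨f, hf⟩ := hex S hS
        rw [card_zc hf]; exact h0
      · obtain ⟨f, hf⟩ := hex S hS
        have hk' := mem_inf.mp hk
        obtain ⟨k, rfl⟩ : ∃ k₀ : X, ((f k₀ : ↥K) : G) = k := ⟨f.symm ⟨k, hk'.2⟩, by simp⟩
        have hkT : k ∈ T := (hf.iff k).mp hk'.1
        have hkk' : k * k = 1 := by
          apply f.injective
          apply Subtype.ext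
          rw [map_mul, map_one]
          exact hkk
        obtain ⟨a, ha, b, hb, hak, hbk, h2, h3, h4⟩ := h1 _ (good_img hf hS) _ (act_mem f hS hx)
          (fun h' => hxc ((fixZ_iff hf _).mp h')) (hsq f S hS x hx hxx) k hkT
          (fun h' => hkz ((inZ_iff hf k).mp h')) hkk' ((act_eq_iff f _ k).mpr hkx)
        rw [act_ne_iff] at h2 h3 h4
        rw [map_mul, map_inv] at h4
        have h5 : ∀ a : X, a * k = k * a → ((f a : ↥K) : G) * f k = f k * f a := by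
          intro a ha'
          have h6 := congrArg (fun y => ((f y : ↥K) : G)) ha'
          simpa using h6
        exact ⟨f a, mem_inf.mpr ⟨(hf.iff a).mpr ha, (f a).2⟩, f b, mem_inf.mpr ⟨(hf.iff b).mpr hb, (f b).2⟩,
          h5 a hak, h5 b hbk, h2, h3, h4⟩

end Cfsg.Agent.OddHalf.D4.Free
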