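import Mathlib
import Cfsg.Agent.OddHalf.D4.Free.Defs
import Cfsg.Agent.OddHalf.D4.KP
import Cfsg.Agent.OddHalf.D4.BaryEnd

/-!
# ODD, D4, (1B): existence of free pairs

A full pair gives a free pair, if no full pair `(K, L)` has a Sylow 2-subgroup of `K` in `N(L)`.
-/

set_option autoImplicit false

namespace Cfsg.Agent.OddHalf.D4.Free

open Cfsg Subgroup Cfsg.Agent.OddHalf.D4 Cfsg.Agent.OddHalf.D4.Basic
open Cfsg.Agent.OddHalf.D4.CommConj (Tight cj mem_cj cj_mul card_cj mem_cj_mul exists_central_involution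
  cj_eq_of_mem_normalizer mem_normalizer_of_cj_eq)

variable {G : Type*} [Group G]

/-- INPUT: no full pair `(K, L)` has a Sylow 2-subgroup of `K` in `N(L)`. -/
def Inp (K : Subgroup G) : Prop := ∀ L Q U : Subgroup G, FullPair K L Q U → ∀ SK : Subgroup G, IsSyl SK K →
  ¬ SK ≤ normalizer (L : Set G)

theorem fullPair_cj {K L Q U : Subgroup G} (h : FullPair K L Q U) (g : G) :
    FullPair (cj g K) (cj g L) (cj g Q) (cj g U) := by
  obtain ⟨n, hn, hL⟩ := h.conj
  refine ⟨⟨g * n * g⁻¹, ?_, ?_⟩, ?_, ?_, ?_⟩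
  · intro h1
    apply hn
    rw [normalizer_cj, mem_cj] at h1
    have e : g⁻¹ * (g * n * g⁻¹) * g = n := by group
    rwa [e] at h1
  · rw [hL, ← cj_mul, ← cj_mul]
    congr 1
    group
  · rw [centralizer_cj]; exact h.sylQ.cj g
  · rw [centralizer_cj]; exact h.sylU.cj g
  · intro q hq u hu
    rw [mem_cj] at hq hu
    have h1 := h.comm _ hq _ hu
    calc q * u = g * (g⁻¹ * q * g * (g⁻¹ * u * g)) * g⁻¹ := by group
      _ = g * (g⁻¹ * u * g * (g⁻¹ * q * g)) * g⁻¹ := by rw [h1]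
      _ = u * q := by group

theorem Inp.cj {K : Subgroup G} (h : Inp K) (g : G) : Inp (CommConj.cj g K) := by
  intro L Q U hp SK hSK hle
  have h1 := fullPair_cj hp g⁻¹
  rw [cj_inv_cj] at h1
  have h2 := hSK.cj g⁻¹
  rw [cj_inv_cj] at h2
  refine h _ _ _ h1 _ h2 ?_
  rw [normalizer_cj]
  exact map_mono hle

theorem Inp.of_conj {K L : Subgroup G} (h : Inp K) (hL : ∃ g, L = CommConj.cj g K) : Inp L := by
  obtain ⟨g, rfl⟩ := hL
  exact h.cj g

/-- elements of `Z(S ∩ K) ∩ N(L)` and `S ∩ C(L)` commute -/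
theorem comm_of_norm {K L S : Subgroup G} (htL : TightAt L) (hS : Good K S) (hsq : ∀ z ∈ zc K S, z * z = 1)
    (hn : ¬ S ⊓ K ≤ normalizer (L : Set G)) {u x : G} (hu : u ∈ S) (huL : u ∈ centralizer (L : Set G))
    (hx : x ∈ zc K S) (hxL : x ∈ normalizer (L : Set G)) : x * u = u * x := by
  by_contra hne
  have hz : u * x * u⁻¹ * x⁻¹ ∈ zc K S := mul_mem (zc_conj hS.le hu hx) (inv_mem hx)
  have hzL : u * x * u⁻¹ * x⁻¹ ∈ centralizer (L : Set G) := by
    have e : u * x * u⁻¹ * x⁻¹ = u * (x * u⁻¹ * x⁻¹) := by group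
    rw [e]
    exact mul_mem huL (htL.norm x hxL _ (inv_mem huL))
  have hz1 : u * x * u⁻¹ * x⁻¹ ≠ 1 := by
    intro h1
    apply hne
    have h2 : u * x = x * u := by
      calc u * x = u * x * u⁻¹ * x⁻¹ * (x * u) := by group
        _ = x * u := by rw [h1, one_mul]
    exact h2.symm
  apply hn
  intro s hs
  exact htL.mem hzL (orderOf_eq_prime (by rw [pow_two]; exact hsq _ hz) hz1) ((mem_zc.mp hz).2 s hs)

/-- a free pair from commuting centres -/
theorem free_of_comm [Finite G] {K L Q U S S' : Subgroup G} (hQ : IsSyl Q (centralizer (K : Set G)))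
    (hU : IsSyl U (centralizer (L : Set G))) (hS : Good K S) (hS' : Good L S')
    (hQS : Q ≤ S) (hQS' : Q ≤ S') (hUS : U ≤ S) (hUS' : U ≤ S') (hX : zc K S ≤ S') (hX' : zc L S' ≤ S)
    (hUX : U ≤ cz K S) (hQX : Q ≤ cz L S') (hXX : ∀ x ∈ zc K S, ∀ y ∈ zc L S', x * y = y * x) :
    ∃ P, FreePair K L P := by
  have hPS : Q ⊔ U ⊔ (zc K S ⊔ zc L S') ≤ S := sup_le (sup_le hQS hUS) (sup_le zc_le_S hX')
  have hPS' : Q ⊔ U ⊔ (zc K S ⊔ zc L S') ≤ S' := sup_le (sup_le hQS' hUS') (sup_le hX zc_le_S)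
  have h2 : IsPGroup 2 ↥(Q ⊔ U ⊔ (zc K S ⊔ zc L S')) := hS.two.to_le hPS
  have key : ∀ A C : Subgroup G, IsSyl A C → A ≤ Q ⊔ U ⊔ (zc K S ⊔ zc L S') →
      IsSyl ((Q ⊔ U ⊔ (zc K S ⊔ zc L S')) ⊓ C) C := by
    intro A C hA hle
    have h1 : (Q ⊔ U ⊔ (zc K S ⊔ zc L S')) ⊓ C = A :=
      le_antisymm (hA.max _ (h2.to_le inf_le_left) (le_inf hle hA.le) inf_le_right) (le_inf hle hA.le)
    rw [h1]; exact hA
  refine ⟨Q ⊔ U ⊔ (zc K S ⊔ zc L S'), ⟨S, hS, hPS, ?_⟩, ⟨S', hS', hPS', ?_⟩,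
    key Q _ hQ (le_sup_left.trans le_sup_left), key U _ hU (le_sup_right.trans le_sup_left),
    ⟨S, hS, le_sup_left.trans le_sup_right⟩, ⟨S', hS', le_sup_right.trans le_sup_right⟩⟩
  · refine sup_le (sup_le (hQ.le.trans centralizer_le_cz) hUX) (sup_le zc_le_cz ?_)
    intro y hy
    exact mem_cz.mpr fun x hx => hXX x hx y hy
  · refine sup_le (sup_le hQX (hU.le.trans centralizer_le_cz)) (sup_le ?_ zc_le_cz)
    intro x hx
    exact mem_cz.mpr fun y hy => (hXX x hx y hy).symm

/-- two commuting involutions of a Sylow subgroup of `C(L)` -/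
theorem exists_four [Finite G] {L U : Subgroup G} (hr : Rk2 L) (hU : IsSyl U (centralizer (L : Set G))) :
    ∃ a ∈ U, ∃ b ∈ U, orderOf a = 2 ∧ orderOf b = 2 ∧ a * b = b * a ∧ a ≠ b := by
  obtain ⟨a, b, ha, hb, ha2, hb2, hab, hne⟩ := hr
  have haa : a * a = 1 := by rw [← pow_two, ← ha2, pow_orderOf_eq_one]
  have hbb : b * b = 1 := by rw [← pow_two, ← hb2, pow_orderOf_eq_one]
  have hza : IsPGroup 2 ↥(zpowers a) := by rw [IsPGroup.iff_card]; exact ⟨1, by rw [Nat.card_zpowers, ha2]; norm_num⟩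
  have hzb : IsPGroup 2 ↥(zpowers b) := by rw [IsPGroup.iff_card]; exact ⟨1, by rw [Nat.card_zpowers, hb2]; norm_num⟩
  have hnb : zpowers b ≤ normalizer ((zpowers a : Subgroup G) : Set G) := by
    rw [zpowers_le]
    apply mem_normalizer_fintype
    rintro x ⟨n, rfl⟩
    refine ⟨n, ?_⟩
    have h1 : Commute b (a ^ n) := (show Commute b a from hab.symm).zpow_right n
    show a ^ n = b * a ^ n * b⁻¹
    rw [h1.eq]; group
  have h2 : IsPGroup 2 ↥(zpowers a ⊔ zpowers b : Subgroup G) := hza.to_sup_of_normal_left' hzb hnb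
  obtain ⟨m, -, hm⟩ := hU.conj_into h2 (sup_le (by rw [zpowers_le]; exact ha) (by rw [zpowers_le]; exact hb))
  refine ⟨m * a * m⁻¹, hm a (mem_sup_left (mem_zpowers a)), m * b * m⁻¹, hm b (mem_sup_right (mem_zpowers b)),
    by rw [Basic.orderOf_conj]; exact ha2, by rw [Basic.orderOf_conj]; exact hb2, ?_, ?_⟩
  · calc m * a * m⁻¹ * (m * b * m⁻¹) = m * (a * b) * m⁻¹ := by group
      _ = m * (b * a) * m⁻¹ := by rw [hab]
      _ = m * b * m⁻¹ * (m * a * m⁻¹) := by group
  · intro h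
    exact hne (mul_left_cancel (mul_right_cancel h))

/-- among `a, b, a⁻¹b` (commuting involutions) one has a given property: it is an involution of `U` -/
theorem exists_invol_of_or {U : Subgroup G} {p : G → Prop} {a b : G} (ha : a ∈ U) (hb : b ∈ U) (ha2 : orderOf a = 2)
    (hb2 : orderOf b = 2) (hab : a * b = b * a) (hne : a ≠ b) (h : p a ∨ p b ∨ p (a⁻¹ * b)) :
    ∃ r ∈ U, orderOf r = 2 ∧ p r := by
  rcases h with h | h | h
  · exact ⟨a, ha, ha2, h⟩
  · exact ⟨b, hb, hb2, h⟩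
  · refine ⟨_, mul_mem (inv_mem ha) hb, ?_, h⟩
    have haa : a * a = 1 := by rw [← pow_two, ← ha2, pow_orderOf_eq_one]
    have hbb : b * b = 1 := by rw [← pow_two, ← hb2, pow_orderOf_eq_one]
    apply orderOf_eq_prime
    · rw [pow_two]
      have h1 : a⁻¹ * b = b * a⁻¹ := by
        have h2 : Commute a⁻¹ b := (show Commute a b from hab).inv_left
        exact h2
      calc a⁻¹ * b * (a⁻¹ * b) = a⁻¹ * (b * a⁻¹) * b := by group
        _ = a⁻¹ * (a⁻¹ * b) * b := by rw [h1]
        _ = (a * a)⁻¹ * (b * b) := by group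
        _ = 1 := by rw [haa, hbb]; group
    · intro h1
      exact hne (inv_mul_eq_one.mp h1)

theorem four_elements [Finite G] {H : Subgroup G} (hc : Nat.card ↥H ≤ 4) {a b : G} (ha : a ∈ H) (hb : b ∈ H)
    (ha1 : a ≠ 1) (hb1 : b ≠ 1) (hne : a ≠ b) (haa : a * a = 1) :
    ∀ x ∈ H, x = 1 ∨ x = a ∨ x = b ∨ x = a * b := by
  have h1 : ({1, a, b, a * b} : Set G) ⊆ (H : Set G) := by
    rintro x (rfl | rfl | rfl | rfl)
    · exact H.one_mem
    · exact ha
    · exact hb
    · exact H.mul_mem ha hb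
  have hab1 : (1 : G) ≠ a * b := by
    intro h
    apply hne
    have h2 : a * b = a * a := by rw [← h, haa]
    exact (mul_left_cancel h2).symm
  have h2 : a ≠ a * b := fun h => hb1 (mul_left_cancel (a := a) (by rw [← h, mul_one]))
  have h3 : b ≠ a * b := fun h => ha1 (mul_right_cancel (b := b) (by rw [← h, one_mul]))
  have h4 : ({1, a, b, a * b} : Set G).ncard = 4 := by
    rw [Set.ncard_insert_of_notMem, Set.ncard_insert_of_notMem, Set.ncard_pair h3]
    · rintro (h | h)
      · exact hne h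
      · exact h2 h
    · rintro (h | h | h)
      · exact ha1 h.symm
      · exact hb1 h.symm
      · exact hab1 h
  have h5 : ({1, a, b, a * b} : Set G) = (H : Set G) := by
    apply Set.eq_of_subset_of_ncard_le h1
    rw [h4]; exact hc
  intro x hx
  have h6 : x ∈ ({1, a, b, a * b} : Set G) := by rw [h5]; exact hx
  simpa using h6

/-- **(A)** -/
theorem exists_free [Finite G] {K L Q U : Subgroup G} (ht : TightAt K)
    (he : Even (Nat.card ↥(centralizer (K : Set G))))
    (hcen : ∀ x ∈ K, x ∈ centralizer (K : Set G) → x = 1) (hr : Rk2 K) (hB : ∀ g : G, BFacts (cj g K))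
    (hin : Inp K) (hp : FullPair K L Q U) :
    ∃ g₁ g₂ : G, ∃ P, cj g₁ K ≠ cj g₂ K ∧ FreePair (cj g₁ K) (cj g₂ K) P := by
  classical
  obtain ⟨g, hg, hLg⟩ := hp.conj
  have hK1 : K = cj 1 K := by
    ext x
    rw [mem_cj]; simp
  have hBK : BFacts K := by rw [hK1]; exact hB 1
  have hBL : BFacts L := by rw [hLg]; exact hB g
  have htL : TightAt L := hp.tightL ht
  have hinL : Inp L := hin.of_conj ⟨g, hLg⟩
  have hrL : Rk2 L := by rw [hLg]; exact hr.cj g
  have heL : Even (Nat.card ↥(centralizer (L : Set G))) := by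
    rw [hLg, centralizer_cj, card_cj]; exact he
  have hQL := hp.leQ ht he
  have hUK := hp.leU ht he
  -- `E`
  have hQU2 : IsPGroup 2 ↥(Q ⊔ U : Subgroup G) := by
    apply hp.sylQ.two.to_sup_of_normal_left' hp.sylU.two
    intro u hu
    apply mem_normalizer_fintype
    intro q hq
    have e : u * q * u⁻¹ = q := by rw [← hp.comm q hq u hu]; group
    rw [e]; exact hq
  obtain ⟨E, hE, hQUE⟩ := exists_isSyl (M := normalizer (K : Set G) ⊓ normalizer (L : Set G)) hQU2
    (sup_le (le_inf (hp.sylQ.le.trans ht.le) hQL) (le_inf hUK (hp.sylU.le.trans htL.le)))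
  obtain ⟨S, hSs, hES⟩ := exists_isSyl hE.two (hE.le.trans inf_le_left)
  obtain ⟨S', hSs', hES'⟩ := exists_isSyl hE.two (hE.le.trans inf_le_right)
  have hS := good_of_syl hSs
  have hS' := good_of_syl hSs'
  have hSE : S ⊓ normalizer (L : Set G) ≤ E :=
    hE.max _ (hS.two.to_le inf_le_left) (le_inf hES (hE.le.trans inf_le_right)) (inf_le_inf_right _ hS.le)
  have hSE' : S' ⊓ normalizer (K : Set G) ≤ E :=
    hE.max _ (hS'.two.to_le inf_le_left) (le_inf hES' (hE.le.trans inf_le_left))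
      (le_inf inf_le_right (inf_le_left.trans hS'.le))
  have hQE : Q ≤ E := le_sup_left.trans hQUE
  have hUE : U ≤ E := le_sup_right.trans hQUE
  have hnK : ¬ S ⊓ K ≤ normalizer (L : Set G) := hin L Q U hp _ hS.syl
  have hnL : ¬ S' ⊓ L ≤ normalizer (K : Set G) := hinL K U Q hp.symm _ hS'.syl
  -- centres lie in `E`
  obtain ⟨a, ha, b, hb, ha2, hb2, hab, hne⟩ := exists_four hrL hp.sylU
  obtain ⟨a', ha', b', hb', ha2', hb2', hab', hne'⟩ := exists_four hr hp.sylQ
  have hsq1 : ∀ {x : G}, orderOf x = 2 → x * x = 1 := fun {x} h => by rw [← pow_two, ← h, pow_orderOf_eq_one]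
  have hXE : zc K S ≤ E := by
    obtain ⟨r, hr, hr2, hrz⟩ := exists_invol_of_or (p := fun x => x ∈ cz K S) ha hb ha2 hb2 hab hne
      (hBK.cyc S hS a (hES (hUE ha)) b (hES (hUE hb)) (by rw [hsq1 ha2]; exact one_mem _)
        (by rw [hsq1 hb2]; exact one_mem _))
    intro x hx
    exact hSE ⟨zc_le_S hx, htL.mem (hp.sylU.le hr) hr2 (mem_cz.mp hrz x hx)⟩
  have hXE' : zc L S' ≤ E := by
    obtain ⟨r, hr, hr2, hrz⟩ := exists_invol_of_or (p := fun x => x ∈ cz L S') ha' hb' ha2' hb2' hab' hne'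
      (hBL.cyc S' hS' a' (hES' (hQE ha')) b' (hES' (hQE hb')) (by rw [hsq1 ha2']; exact one_mem _)
        (by rw [hsq1 hb2']; exact one_mem _))
    intro x hx
    exact hSE' ⟨zc_le_S hx, ht.mem (hp.sylQ.le hr) hr2 (mem_cz.mp hrz x hx)⟩
  have hUX : U ≤ cz K S := by
    intro u hu
    rw [mem_cz]
    intro x hx
    exact comm_of_norm htL hS (hBK.sq S hS) hnK (hES (hUE hu)) (hp.sylU.le hu) hx ((hE.le (hXE hx)).2)
  have hQX : Q ≤ cz L S' := by
    intro u hu
    rw [mem_cz]
    intro x hx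
    exact comm_of_norm ht hS' (hBL.sq S' hS') hnL (hES' (hQE hu)) (hp.sylQ.le hu) hx ((hE.le (hXE' hx)).1)
  by_cases hXX : ∀ x ∈ zc K S, ∀ y ∈ zc L S', x * y = y * x
  · obtain ⟨P, hP⟩ := free_of_comm hp.sylQ hp.sylU hS hS' (hQE.trans hES) (hQE.trans hES') (hUE.trans hES)
      (hUE.trans hES') (hXE.trans hES') (hXE'.trans hES) hUX hQX hXX
    refine ⟨1, g, P, ?_, ?_⟩
    · rw [← hK1, ← hLg]
      exact hp.ne.symm
    · rw [← hK1, ← hLg]
      exact hP
  -- the centres do not commute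
  push Not at hXX
  obtain ⟨x₀, hx₀, z', hz', hxz⟩ := hXX
  have hz'E : z' ∈ E := hXE' hz'
  have hz'2 : z' * z' = 1 := hBL.sq S' hS' z' hz'
  have hz'inv : z'⁻¹ = z' := inv_eq_of_mul_eq_one_right hz'2
  have hz'c : z' ∉ cz K S := fun h => hxz (mem_cz.mp h x₀ hx₀)
  have hz'1 : z' ≠ 1 := by
    rintro rfl
    exact hxz (by simp)
  -- no `a, b` in `S'` with squares centralizing
  have nofour : ∀ a ∈ S', ∀ b ∈ S', a * a = 1 → b * b = 1 → a * z' ≠ z' * a → b * z' ≠ z' * b →
      a * b * z' ≠ z' * (a * b) → False := by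
    intro a ha b hb haa hbb h1 h2 h3
    rcases hBL.cyc S' hS' a ha b hb (by rw [haa]; exact one_mem _) (by rw [hbb]; exact one_mem _) with h | h | h
    · exact h1 (mem_cz.mp h z' hz').symm
    · exact h2 (mem_cz.mp h z' hz').symm
    · have e : a⁻¹ = a := inv_eq_of_mul_eq_one_right haa
      rw [e] at h
      exact h3 (mem_cz.mp h z' hz').symm
  -- the element `y0`
  have hy0 : x₀ * z' * x₀⁻¹ * z'⁻¹ ∈ zc K S ∧ x₀ * z' * x₀⁻¹ * z'⁻¹ ∈ zc L S' ∧ x₀ * z' * x₀⁻¹ * z'⁻¹ ≠ 1 := by
    refine ⟨?_, ?_, ?_⟩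
    · have e : x₀ * z' * x₀⁻¹ * z'⁻¹ = x₀ * (z' * x₀⁻¹ * z'⁻¹) := by group
      rw [e]
      exact mul_mem hx₀ (zc_conj hS.le (hES hz'E) (inv_mem hx₀))
    · exact mul_mem (zc_conj hS'.le (hES' (hXE hx₀)) hz') (inv_mem hz')
    · intro h
      apply hxz
      calc x₀ * z' = x₀ * z' * x₀⁻¹ * z'⁻¹ * (z' * x₀) := by group
        _ = z' * x₀ := by rw [h, one_mul]
  generalize x₀ * z' * x₀⁻¹ * z'⁻¹ = y0 at hy0
  obtain ⟨hy0X, hy0X', hy01⟩ := hy0
  have hy02 : y0 * y0 = 1 := hBK.sq S hS y0 hy0X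
  have hy0z : y0 ≠ z' := by
    rintro rfl
    exact hz'c (zc_le_cz hy0X)
  have hX'4 : Nat.card ↥(zc L S') ≤ 4 → ∀ x ∈ zc L S', x = 1 ∨ x = y0 ∨ x = z' ∨ x = y0 * z' := fun hc =>
    four_elements hc hy0X' hz' hy01 hz'1 hy0z hy02
  -- `|Z(S' ∩ L)| ≤ 4` from the case for `L`
  have hcardL : (∀ S, Good K S → Nat.card ↥(zc K S) ≤ 4) → Nat.card ↥(zc L S') ≤ 4 := by
    intro hc
    have h1 := hc _ (by
      have h2 := hS'.cj g⁻¹
      rw [hLg, cj_inv_cj] at h2
      exact h2)
    have h3 : zc K (cj g⁻¹ S') = cj g⁻¹ (zc L S') := by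
      rw [← zc_cj, hLg, cj_inv_cj]
    rw [h3, card_cj] at h1
    exact h1
  rcases hBK.out with h | h | ⟨hc, h⟩ | ⟨hc, h⟩
  · exfalso
    obtain ⟨a, ha, b, hb, h1, h2, h3⟩ := h S hS z' (hES hz'E) hz'c
    exact nofour a (hES' (hXE ha)) b (hES' (hXE hb)) (hBK.sq S hS a ha) (hBK.sq S hS b hb) h1 h2 h3
  · exact absurd (h S hS z' (hES hz'E) hz'2) hz'c
  · -- (c3)
    obtain ⟨W, hWS, hWn, hW2, hW⟩ := h S hS
    obtain ⟨a, ha, b, hb, h1, h2, h3⟩ := hW z' (hES hz'E) hz'c hz'2
    have hWE : ¬ W ≤ E := fun hle =>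
      nofour a (hES' (hle ha)) b (hES' (hle hb)) (hW2 a ha) (hW2 b hb) h1 h2 h3
    have hWSS : W ≤ S := hWS.trans inf_le_left
    -- `t`
    obtain ⟨t, htW, htE, htN⟩ : ∃ t ∈ W, t ∉ E ∧ t ∈ normalizer (E : Set G) := by
      by_contra hcon
      push Not at hcon
      apply hWE
      have hEW : E ≤ normalizer (W : Set G) := by
        intro e he
        apply mem_normalizer_fintype
        intro w hw
        exact hWn e (hES he) w hw
      have h4 : IsPGroup 2 ↥(E ⊔ W : Subgroup G) := hS.two.to_le (sup_le hES hWSS)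
      have h5 : normalizer (E : Set G) ⊓ (E ⊔ W) ≤ E := by
        rintro x ⟨hxN, hx⟩
        have hx' : x ∈ ((E ⊔ W : Subgroup G) : Set G) := hx
        rw [coe_mul_of_left_le_normalizer_right E W hEW] at hx'
        obtain ⟨e, he, w, hw, rfl⟩ := hx'
        have hwN : w ∈ normalizer (E : Set G) := by
          have h6 := mul_mem (inv_mem (le_normalizer he)) hxN
          have e1 : e⁻¹ * (e * w) = w := by group
          rwa [e1] at h6
        have hwE : w ∈ E := by
          by_contra hne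
          exact hcon w hw hne hwN
        exact mul_mem he hwE
      have h6 := Cfsg.Agent.Blocks.SylowIn.eq_of_normalizer_inf_le h4 le_sup_left h5
      rw [← h6]
      exact le_sup_right
    have htS : t ∈ S := hWSS htW
    have htL' : t ∉ normalizer (L : Set G) := fun h' => htE (hSE ⟨htS, h'⟩)
    have htE' : cj t E = E := cj_eq_of_mem_normalizer htN
    have hEcj : ∀ x ∈ E, t * x * t⁻¹ ∈ E := fun x hx => (mem_normalizer_iff.mp htN x).mp hx
    have hleE : ∀ A : Subgroup G, A ≤ E → cj t A ≤ E := by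
      intro A hA
      rw [← htE']
      exact map_mono hA
    have htL2 : TightAt (cj t L) := htL.cj t
    have hEL : E ≤ normalizer (L : Set G) := hE.le.trans inf_le_right
    have hEL' : E ≤ normalizer ((cj t L : Subgroup G) : Set G) := by
      rw [normalizer_cj, ← htE']
      exact map_mono hEL
    -- `(L, L^t)` is a full pair
    have hUn : ∀ e ∈ E, ∀ u ∈ U, e * u * e⁻¹ ∈ U := by
      have hUeq : E ⊓ centralizer (L : Set G) = U :=
        le_antisymm (hp.sylU.max _ (hE.two.to_le inf_le_left) (le_inf hUE hp.sylU.le) inf_le_right)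
          (le_inf hUE hp.sylU.le)
      intro e he u hu
      rw [← hUeq]
      exact ⟨E.mul_mem (E.mul_mem he (hUE hu)) (E.inv_mem he), htL.norm e (hEL he) u (hp.sylU.le hu)⟩
    have hUn' : ∀ e ∈ E, ∀ u ∈ cj t U, e * u * e⁻¹ ∈ cj t U := by
      intro e he u hu
      rw [mem_cj] at hu ⊢
      have h4 : t⁻¹ * e * t ∈ E := (mem_normalizer_iff''.mp htN e).mp he
      have h5 := hUn _ h4 _ hu
      have e1 : t⁻¹ * e * t * (t⁻¹ * u * t) * (t⁻¹ * e * t)⁻¹ = t⁻¹ * (e * u * e⁻¹) * t := by group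
      rwa [e1] at h5
    have hp' : FullPair L (cj t L) U (cj t U) := by
      refine ⟨⟨t, htL', rfl⟩, hp.sylU, ?_, ?_⟩
      · rw [centralizer_cj]; exact hp.sylU.cj t
      · intro u hu v hv
        by_contra hne
        have h4 : u * v * u⁻¹ * v⁻¹ ∈ U ∧ u * v * u⁻¹ * v⁻¹ ∈ cj t U := by
          constructor
          · have e1 : u * v * u⁻¹ * v⁻¹ = u * (v * u⁻¹ * v⁻¹) := by group
            rw [e1]
            exact mul_mem hu (hUn v (hleE U hUE hv) _ (inv_mem hu))
          · exact mul_mem (hUn' u (hUE hu) v hv) (inv_mem hv)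
        have h5 : u * v * u⁻¹ * v⁻¹ ≠ 1 := by
          intro h6
          apply hne
          calc u * v = u * v * u⁻¹ * v⁻¹ * (v * u) := by group
            _ = v * u := by rw [h6, one_mul]
        -- an involution in `U ∩ U^t`
        generalize u * v * u⁻¹ * v⁻¹ = w at h4 h5
        obtain ⟨z, hz, hz1, hz2⟩ : ∃ z, z ∈ U ⊓ cj t U ∧ z ≠ 1 ∧ z * z = 1 := by
          obtain ⟨z, hz, hzN, hz2, -⟩ := exists_central_involution (S := U ⊓ cj t U) (N := U ⊓ cj t U)
            (hp.sylU.two.to_le inf_le_left) (fun s hs n hn => mul_mem (mul_mem hs hn) (inv_mem hs))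
            ⟨w, h4, h4, h5⟩
          refine ⟨z, hz, ?_, hsq1 hz2⟩
          rintro rfl
          rw [orderOf_one] at hz2; exact absurd hz2 (by norm_num)
        have hz3 : orderOf z = 2 := orderOf_eq_prime (by rw [pow_two]; exact hz2) hz1
        apply htL'
        refine htL.eq (hp.sylU.le hz.1) hz3 ?_
        rw [centralizer_cj, mem_cj]
        exact hp.sylU.le (mem_cj.mp hz.2)
    -- `z'` and `z'^t` commute
    have ht0 : t * y0 = y0 * t := (mem_zc.mp hy0X).2 t (hWS htW)
    have htz : z' * (t * z' * t⁻¹) = t * z' * t⁻¹ * z' := by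
      have h4 : z' * t * z'⁻¹ ∈ W := hWn z' (hES hz'E) t htW
      have h5 := hW2 _ (mul_mem h4 (inv_mem htW))
      rw [hz'inv] at h5
      -- `(z' t z' t⁻¹)² = 1`
      calc z' * (t * z' * t⁻¹) = (z' * t * z' * t⁻¹) * (z' * t * z' * t⁻¹) * (z' * t * z' * t⁻¹)⁻¹ := by group
        _ = (z' * t * z' * t⁻¹)⁻¹ := by rw [h5, one_mul]
        _ = t * z'⁻¹ * t⁻¹ * z'⁻¹ := by group
        _ = t * z' * t⁻¹ * z' := by rw [hz'inv]
    have hcard := hcardL hc
    have hel := hX'4 hcard
    have hXXt : ∀ x ∈ zc L S', ∀ y ∈ zc (cj t L) (cj t S'), x * y = y * x := by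
      have c1 : Commute y0 z' := zc_comm hy0X' hz'
      have c2 : Commute y0 (t * z' * t⁻¹) := by
        have h4 : t * (y0 * z') * t⁻¹ = t * (z' * y0) * t⁻¹ := by rw [c1.eq]
        show y0 * (t * z' * t⁻¹) = t * z' * t⁻¹ * y0
        have h5 : t⁻¹ * y0 = y0 * t⁻¹ := ((show Commute t y0 from ht0).inv_left).eq
        calc y0 * (t * z' * t⁻¹) = (y0 * t) * z' * t⁻¹ := by group
          _ = (t * y0) * z' * t⁻¹ := by rw [ht0]
          _ = t * (y0 * z') * t⁻¹ := by group
          _ = t * (z' * y0) * t⁻¹ := h4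
          _ = t * z' * (y0 * t⁻¹) := by group
          _ = t * z' * (t⁻¹ * y0) := by rw [h5]
          _ = t * z' * t⁻¹ * y0 := by group
      have c3 : Commute z' (t * z' * t⁻¹) := htz
      intro x hx y hy
      rw [zc_cj] at hy
      have hy' := mem_cj.mp hy
      have hyy : y = 1 ∨ y = y0 ∨ y = t * z' * t⁻¹ ∨ y = y0 * (t * z' * t⁻¹) := by
        have e0 : y = t * (t⁻¹ * y * t) * t⁻¹ := by group
        rcases hel _ hy' with h4 | h4 | h4 | h4
        · left; rw [e0, h4]; group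
        · right; left; rw [e0, h4, ht0]; group
        · right; right; left; rw [e0, h4]
        · right; right; right; rw [e0, h4]
          calc t * (y0 * z') * t⁻¹ = (t * y0) * z' * t⁻¹ := by group
            _ = (y0 * t) * z' * t⁻¹ := by rw [ht0]
            _ = y0 * (t * z' * t⁻¹) := by group
      show Commute x y
      rcases hel x hx with rfl | rfl | rfl | rfl
      · exact Commute.one_left _
      · rcases hyy with rfl | rfl | rfl | rfl
        · exact Commute.one_right _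
        · exact Commute.refl _
        · exact c2
        · exact (Commute.refl _).mul_right c2
      · rcases hyy with rfl | rfl | rfl | rfl
        · exact Commute.one_right _
        · exact c1.symm
        · exact c3
        · exact c1.symm.mul_right c3
      · rcases hyy with rfl | rfl | rfl | rfl
        · exact Commute.one_right _
        · exact (Commute.refl _).mul_left c1.symm
        · exact c2.mul_left c3
        · exact ((Commute.refl _).mul_right c2).mul_left (c1.symm.mul_right c3)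
    have hS'' : Good (cj t L) (cj t S') := hS'.cj t
    have hES'' : E ≤ cj t S' := by
      rw [← htE']
      exact map_mono hES'
    have hsq'' : ∀ z ∈ zc (cj t L) (cj t S'), z * z = 1 := by
      intro z hz
      rw [zc_cj] at hz
      have h4 := hBL.sq S' hS' _ (mem_cj.mp hz)
      calc z * z = t * (t⁻¹ * z * t * (t⁻¹ * z * t)) * t⁻¹ := by group
        _ = 1 := by rw [h4]; group
    have hXE'' : zc (cj t L) (cj t S') ≤ E := by
      rw [zc_cj]
      exact hleE _ hXE'
    have hn1 : ¬ S' ⊓ L ≤ normalizer ((cj t L : Subgroup G) : Set G) := hinL _ _ _ hp' _ hS'.syl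
    have hn2 : ¬ cj t S' ⊓ cj t L ≤ normalizer (L : Set G) := (hinL.cj t) _ _ _ hp'.symm _ hS''.syl
    obtain ⟨P, hP⟩ := free_of_comm (K := L) (L := cj t L) (Q := U) (U := cj t U) (S := S') (S' := cj t S')
      hp.sylU hp'.sylU hS' hS'' (hUE.trans hES') (hUE.trans hES'') ((hleE U hUE).trans hES')
      ((hleE U hUE).trans hES'') (hXE'.trans hES'') (hXE''.trans hES')
      (fun u hu => mem_cz.mpr fun x hx => comm_of_norm htL2 hS' (hBL.sq S' hS') hn1 (hES' (hleE U hUE hu))
        (hp'.sylU.le hu) hx (hEL' (hXE' hx)))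
      (fun u hu => mem_cz.mpr fun x hx => comm_of_norm htL hS'' hsq'' hn2 (hES'' (hUE hu))
        (hp.sylU.le hu) hx (hEL (hXE'' hx)))
      hXXt
    refine ⟨g, t * g, P, ?_, ?_⟩
    · rw [cj_mul, ← hLg]
      exact hp'.ne.symm
    · rw [cj_mul, ← hLg]
      exact hP
  · -- (c4)
    exfalso
    have hcard := hcardL hc
    have hel := hX'4 hcard
    obtain ⟨y, hy, hy2, c, hcC, k, hkK, hck⟩ := exists_invol_of_or (p := fun x => Inner K x) ha hb ha2 hb2 hab hne
      (hBK.graph S hS a (hES (hUE ha)) b (hES (hUE hb)) (hUX ha) (hUX hb))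
    have hcomm : ∀ k ∈ K, ∀ c ∈ centralizer (K : Set G), k * c = c * k :=
      fun k hk c hc => mem_centralizer_iff.mp hc k hk
    have huniq : ∀ c ∈ centralizer (K : Set G), ∀ k ∈ K, ∀ c' ∈ centralizer (K : Set G), ∀ k' ∈ K,
        c * k = c' * k' → k = k' := by
      intro c hc k hk c' hc' k' hk' h
      have h1 : k * k'⁻¹ = c⁻¹ * c' := by
        calc k * k'⁻¹ = c⁻¹ * (c * k) * k'⁻¹ := by group
          _ = c⁻¹ * (c' * k') * k'⁻¹ := by rw [h]
          _ = c⁻¹ * c' := by group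
      have h2 := hcen _ (mul_mem hk (inv_mem hk')) (by rw [h1]; exact mul_mem (inv_mem hc) hc')
      exact mul_inv_eq_one.mp h2
    have hyy : y * y = 1 := hsq1 hy2
    have hkc := hcomm k hkK c hcC
    have hkk : k * k = 1 := by
      have h2 : c * c * (k * k) = 1 := by
        calc c * c * (k * k) = c * (c * k) * k := by group
          _ = c * (k * c) * k := by rw [hkc]
          _ = (c * k) * (c * k) := by group
          _ = 1 := by rw [← hck]; exact hyy
      exact huniq _ (mul_mem hcC hcC) _ (mul_mem hkK hkK) 1 (one_mem _) 1 (one_mem _) (by rw [h2, mul_one])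
    have hcc : c * c = 1 := by
      have h2 : c * c * (k * k) = 1 := by
        calc c * c * (k * k) = c * (c * k) * k := by group
          _ = c * (k * c) * k := by rw [hkc]
          _ = (c * k) * (c * k) := by group
          _ = 1 := by rw [← hck]; exact hyy
      rw [hkk, mul_one] at h2
      exact h2
    have hyE : y ∈ E := hUE hy
    -- `c ∈ Q`
    have hcQ : c ∈ Q := by
      apply BaryEnd.mem_of_syl hp.sylQ hcC ⟨1, by rw [pow_one, pow_two, hcc]⟩
      intro q hq
      have h1 : k * q = q * k := hcomm k hkK q (hp.sylQ.le hq)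
      have h2 : q * y = y * q := hp.comm q hq y hy
      have h3 : c * q * c⁻¹ = q := by
        have h4 : c * q * k = q * c * k := by
          calc c * q * k = c * (q * k) := by group
            _ = c * (k * q) := by rw [h1]
            _ = c * k * q := by group
            _ = q * (c * k) := by rw [← hck, h2]
            _ = q * c * k := by group
        have h5 := mul_right_cancel h4
        rw [h5]; group
      rw [h3]; exact hq
    have hkE : k ∈ E := by
      have h1 : k = c⁻¹ * y := by rw [hck]; group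
      rw [h1]; exact mul_mem (inv_mem (hQE hcQ)) hyE
    have hyL : y ∈ centralizer (L : Set G) := hp.sylU.le hy
    have hcomy : ∀ x ∈ K, x * k = k * x → x * y = y * x := by
      intro x hx hxk
      rw [hck]
      calc x * (c * k) = (x * c) * k := by group
        _ = (c * x) * k := by rw [hcomm x hx c hcC]
        _ = c * (x * k) := by group
        _ = c * (k * x) := by rw [hxk]
        _ = c * k * x := by group
    have hknz : k ∉ zc K S := by
      intro hk
      apply hnK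
      intro s hs
      exact htL.mem hyL hy2 (hcomy s hs.2 ((mem_zc.mp hk).2 s hs))
    have hkz : k * z' = z' * k := by
      have h1 : z' * y = y * z' := mem_centralizer_iff.mp hyL z' (zc_le_K hz')
      have hzK : z' ∈ normalizer (K : Set G) := (hE.le hz'E).1
      have h2 : (z' * c * z'⁻¹) * (z' * k * z'⁻¹) = c * k := by
        calc (z' * c * z'⁻¹) * (z' * k * z'⁻¹) = z' * (c * k) * z'⁻¹ := by group
          _ = z' * y * z'⁻¹ := by rw [hck]
          _ = y * z' * z'⁻¹ := by rw [h1]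
          _ = c * k := by rw [hck]; group
      have h3 := huniq _ (ht.norm z' hzK c hcC) _ ((mem_normalizer_iff.mp hzK k).mp hkK) _ hcC _ hkK h2
      calc k * z' = z' * k * z'⁻¹ * z' := by rw [h3]
        _ = z' * k := by group
    obtain ⟨a, ha, b, hb, hak, hbk, haz, hbz, habz⟩ := h S hS z' (hES hz'E) hz'c hz'2 k ⟨hES hkE, hkK⟩ hknz hkk hkz
    have hin : ∀ x ∈ S ⊓ K, x * k = k * x → x * z' ≠ z' * x → x * z' * x⁻¹ = y0 * z' := by
      intro x hx hxk hxz
      have hxE : x ∈ E := hSE ⟨hx.1, htL.mem hyL hy2 (hcomy x hx.2 hxk)⟩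
      have h1 : x * z' * x⁻¹ * z'⁻¹ ∈ zc L S' := mul_mem (zc_conj hS'.le (hES' hxE) hz') (inv_mem hz')
      have hzK : z' ∈ normalizer (K : Set G) := (hE.le hz'E).1
      have h2 : x * z' * x⁻¹ * z'⁻¹ ∈ cz K S := by
        apply inf_le_cz
        refine ⟨hES (hXE' h1), ?_⟩
        have e : x * z' * x⁻¹ * z'⁻¹ = x * (z' * x⁻¹ * z'⁻¹) := by group
        rw [e]
        exact K.mul_mem hx.2 ((mem_normalizer_iff.mp hzK _).mp (K.inv_mem hx.2))
      have h3 : x * z' * x⁻¹ * z'⁻¹ = y0 := by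
        rcases hel _ h1 with h4 | h4 | h4 | h4
        · exfalso
          apply hxz
          calc x * z' = x * z' * x⁻¹ * z'⁻¹ * (z' * x) := by group
            _ = z' * x := by rw [h4, one_mul]
        · exact h4
        · exfalso; rw [h4] at h2; exact hz'c h2
        · exfalso; rw [h4] at h2
          apply hz'c
          have h5 := mul_mem (inv_mem (zc_le_cz hy0X)) h2
          have e : y0⁻¹ * (y0 * z') = z' := by group
          rwa [e] at h5
      calc x * z' * x⁻¹ = x * z' * x⁻¹ * z'⁻¹ * z' := by group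
        _ = y0 * z' := by rw [h3]
    have h1 := hin a ha hak haz
    have h2 := hin b hb hbk hbz
    apply habz
    have h3 : a⁻¹ * b * z' * (a⁻¹ * b)⁻¹ = z' := by
      calc a⁻¹ * b * z' * (a⁻¹ * b)⁻¹ = a⁻¹ * (b * z' * b⁻¹) * a := by group
        _ = a⁻¹ * (a * z' * a⁻¹) * a := by rw [h2, h1]
        _ = z' := by group
    calc a⁻¹ * b * z' = a⁻¹ * b * z' * (a⁻¹ * b)⁻¹ * (a⁻¹ * b) := by group
      _ = z' * (a⁻¹ * b) := by rw [h3]

end Cfsg.Agent.OddHalf.D4.Free
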