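import Mathlib
import Cfsg.Agent.OddHalf.D4.Free.Defs
import Cfsg.Agent.OddHalf.D4.Free.Chi

/-!
# ODD, D4, (1B): maximal free pairs

`zc_le`: a maximal free pair contains `Z(S ∩ K)` for all good `S ≥ P`. `line_le`: a line of `N_K(P)` normalizing `L`
lies in `P`. `false_of_max`: `N(P) ≤ N(K)`.
-/

set_option autoImplicit false

namespace Cfsg.Agent.OddHalf.D4.Free

open Cfsg Subgroup Cfsg.Agent.OddHalf.D4 Cfsg.Agent.OddHalf.D4.Basic Cfsg.Agent.OddHalf.D4.BaryEnd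
open Cfsg.Agent.OddHalf.D4.KMax Cfsg.Agent.OddHalf.D4.LineR
open Cfsg.Agent.OddHalf.D4.CommConj (Tight cj mem_cj cj_mul card_cj mem_cj_mul exists_central_involution
  cj_eq_of_mem_normalizer mem_normalizer_of_cj_eq)

variable {G : Type*} [Group G] [Finite G] {K L P : Subgroup G}

/-- **(B)** `Z(S ∩ K) ≤ P` -/
theorem zc_le (htL : TightAt L) (heL : Even (Nat.card ↥(centralizer (L : Set G)))) (hBK : BFacts K)
    (hBL : BFacts L) (h : FreePair K L P) (hmax : ∀ P₁, FreePair K L P₁ → P ≤ P₁ → P₁ ≤ P) {S : Subgroup G}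
    (hS : Good K S) (hPS : P ≤ S) : zc K S ≤ P := by
  have hPz := h.frK.le_cz hBK hS hPS
  obtain ⟨r, hr, hr2⟩ := exists_inv_syl h.sylL heL
  have hzL : zc K S ≤ normalizer (L : Set G) := by
    intro x hx
    exact htL.mem hr.2 hr2 (mem_cz.mp (hPz hr.1) x hx)
  have hP₁S : P ⊔ zc K S ≤ S := sup_le hPS zc_le_S
  have h2 : IsPGroup 2 ↥(P ⊔ zc K S) := hS.two.to_le hP₁S
  have hP₁L : P ⊔ zc K S ≤ normalizer (L : Set G) := sup_le h.frL.le hzL
  obtain ⟨T, hT, hP₁T⟩ := exists_good h2 hP₁L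
  have hfr : Fr L (P ⊔ zc K S) := by
    refine ⟨T, hT, hP₁T, sup_le ?_ ?_⟩
    · exact h.frL.le_cz hBL hT (le_sup_left.trans hP₁T)
    · intro x hx
      obtain ⟨S', hS', hz'⟩ := h.zL
      apply hBL.field S' T hS' hT x (hP₁T (mem_sup_right hx))
      rw [mem_cz]
      intro z hz
      exact (mem_cz.mp (hPz (hz' hz)) x hx).symm
  exact le_sup_right.trans
    (hmax (P ⊔ zc K S) (h.up le_sup_left ⟨S, hS, hP₁S, sup_le hPz zc_le_cz⟩ hfr) le_sup_left)

/-- **LINE LEMMA.** -/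
theorem line_le (htK : TightAt K) (heK : Even (Nat.card ↥(centralizer (K : Set G))))
    (hBK : BFacts K) (hBL : BFacts L) (h : FreePair K L P)
    (hmax : ∀ P₁, FreePair K L P₁ → P ≤ P₁ → P₁ ≤ P) {S D l : Subgroup G} (hS : Good K S) (hPS : P ≤ S)
    (hD : D ≤ P) (hlS : l ≤ S ⊓ K) (hlL : l ≤ normalizer (L : Set G)) (hl : IsLineF K S D l) : l ≤ P := by
  have hPz := h.frK.le_cz hBK hS hPS
  have hP₂S : P ⊔ l ≤ S := sup_le hPS (hlS.trans inf_le_left)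
  have h2 : IsPGroup 2 ↥(P ⊔ l) := hS.two.to_le hP₂S
  have hP₂L : P ⊔ l ≤ normalizer (L : Set G) := sup_le h.frL.le hlL
  obtain ⟨T, hT, hP₂T⟩ := exists_good h2 hP₂L
  have hPT : P ≤ T := le_sup_left.trans hP₂T
  have hlT : l ≤ T := le_sup_right.trans hP₂T
  have hzP : zc L T ≤ P :=
    zc_le htK heK hBL hBK h.symm (fun P₁ hP₁ => hmax P₁ hP₁.symm) hT hPT
  have hPzT : P ≤ cz L T := h.frL.le_cz hBL hT hPT
  obtain ⟨a, ha, b, hb, haD, hbD, habD⟩ := hl.pair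
  -- an element of `l ∖ D` centralizing `zc L T`
  obtain ⟨x, hx, hxD, hxz⟩ : ∃ x ∈ l, x ∉ D ∧ x ∈ cz L T := by
    rcases hBL.cyc T hT a (hlT ha) b (hlT hb) (hPzT (hD (hl.sq a ha))) (hPzT (hD (hl.sq b hb))) with h1 | h1 | h1
    · exact ⟨a, ha, haD, h1⟩
    · exact ⟨b, hb, hbD, h1⟩
    · exact ⟨_, mul_mem (inv_mem ha) hb, habD, h1⟩
  have hlz : l ≤ cz L T := by
    intro x' hx'
    rw [mem_cz]
    intro z hz
    have h3 := hl.star z (hPS (hzP hz)) (hPz (hzP hz)) (hBL.sq T hT z hz) x hx hxD (mem_cz.mp hxz z hz).symm x' hx'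
    exact h3.symm
  exact le_sup_right.trans (hmax (P ⊔ l) (h.up le_sup_left
    ⟨S, hS, hP₂S, sup_le hPz (hlS.trans inf_le_cz)⟩ ⟨T, hT, hP₂T, sup_le hPzT hlz⟩) le_sup_left)

/-- the inner elements of `V` -/
def innerIn (K V : Subgroup G) : Subgroup G where
  carrier := {x | x ∈ V ∧ Inner K x}
  one_mem' := ⟨V.one_mem, Inner.one⟩
  mul_mem' := fun ha hb => ⟨V.mul_mem ha.1 hb.1, ha.2.mul hb.2⟩
  inv_mem' := fun ha => ⟨V.inv_mem ha.1, ha.2.inv⟩

/-- **(C)** -/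
theorem false_of_max (ht : TightAt K) (he : Even (Nat.card ↥(centralizer (K : Set G))))
    (hcen : ∀ x ∈ K, x ∈ centralizer (K : Set G) → x = 1) (hBK : BFacts K) (hB : ∀ g : G, BFacts (cj g K))
    (hfr : ∀ n ∈ normalizer (P : Set G), n ∉ normalizer (K : Set G) → FreePair K (cj n K) P)
    (hmax : ∀ n ∈ normalizer (P : Set G), n ∉ normalizer (K : Set G) → ∀ P₁, FreePair K (cj n K) P₁ →
      P ≤ P₁ → P₁ ≤ P)
    (hend : ∃ n ∈ normalizer (P : Set G), n ∉ normalizer (K : Set G))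
    {S : Subgroup G} (hS : Good K S) (hPS : P ≤ S) (hSP : ¬ S ⊓ K ≤ P) : False := by
  classical
  set N := normalizer (P : Set G) with hN
  set M := normalizer (K : Set G) with hM
  set C := centralizer (K : Set G) with hC
  obtain ⟨n₀, hn₀, hn₀M⟩ := hend
  have hfr₀ := hfr n₀ hn₀ hn₀M
  have hPM : P ≤ M := hfr₀.frK.le
  have hP2 : IsPGroup 2 ↥P := hfr₀.frK.two
  have hPz : P ≤ cz K S := hfr₀.frK.le_cz hBK hS hPS
  have hQ : IsSyl (P ⊓ C) C := hfr₀.sylK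
  obtain ⟨D, hD, l, hlS, hlN, hlP, hl⟩ := hBK.line S hS P hPS hPz hSP
  have hlK : l ≤ K := hlS.trans inf_le_right
  have hlM : l ≤ M := hlK.trans le_normalizer
  have hl2 : IsPGroup 2 ↥l := hS.two.to_le (hlS.trans inf_le_left)
  have hcomm : ∀ k ∈ K, ∀ c ∈ C, k * c = c * k := fun k hk c hc => mem_centralizer_iff.mp hc k hk
  have hKM : ∀ m ∈ M, ∀ k ∈ K, m * k * m⁻¹ ∈ K := fun m hm k hk => (mem_normalizer_iff.mp hm k).mp hk
  have hcjP : ∀ n ∈ N, ∀ x ∈ P, n * x * n⁻¹ ∈ P := fun n hn x hx => (mem_normalizer_iff.mp hn x).mp hx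
  -- the hull
  have hVZ := hull_omegaZ (C := C) (E := P)
  set V₀ := omegaZ P C with hV₀d
  set V := hull N V₀ with hVd
  have hV₀V : V₀ ≤ V := fun x hx => subset_closure ⟨1, one_mem _, x, hx, by group⟩
  have hV2 : ∀ v ∈ V, v * v = 1 := fun v hv => (hVZ v hv).2.1
  have hVP : V ≤ P := fun v hv => (hVZ v hv).1
  have hab : ∀ x ∈ V, ∀ y ∈ V, x * y = y * x := fun x hx y hy => (hVZ y hy).2.2 x (hVP hx)
  have hPV : ∀ p ∈ P, ∀ v ∈ V, p * v = v * p := fun p hp v hv => (hVZ v hv).2.2 p hp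
  have hVN : ∀ n ∈ N, n ∈ M → ∀ x ∈ V₀, n * x * n⁻¹ ∈ V₀ := by
    intro n hn hnM x hx
    have h1 := hVZ _ (hull_cj (v := x) hn (hV₀V hx))
    exact ⟨h1.1, ht.norm n hnM x hx.2.1, h1.2.1, h1.2.2⟩
  obtain ⟨z, hz, hz2⟩ : ∃ z ∈ V₀, orderOf z = 2 := by
    obtain ⟨y, hy, hy2⟩ := exists_inv_syl hQ he
    obtain ⟨z, hzP, hzC, hz2, hzc⟩ := exists_central_involution (S := P) (N := P ⊓ C) hP2 (by
        intro s hs n hn
        exact mem_inf.mpr ⟨mul_mem (mul_mem hs hn.1) (inv_mem hs), ht.norm s (hPM hs) n hn.2⟩)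
      ⟨y, hy.1, hy, by rintro rfl; rw [orderOf_one] at hy2; exact absurd hy2 (by norm_num)⟩
    exact ⟨z, ⟨hzP, hzC.2, by rw [← pow_two, ← hz2]; exact pow_orderOf_eq_one z, hzc⟩, hz2⟩
  have hzC : z ∈ C := hz.2.1
  have hz1 : z ≠ 1 := by
    rintro rfl
    rw [orderOf_one] at hz2; exact absurd hz2 (by norm_num)
  -- an element of `l ∖ D` commutes with no element of `(V₀^n)#`
  have key : ∀ n ∈ N, n ∉ M → ∀ v, n⁻¹ * v * n ∈ V₀ → v ≠ 1 → ∀ t ∈ l, t ∉ D → t * v = v * t → False := by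
    intro n hn hnM v hv hv1 t htl htD htv
    apply hlP
    have hvV : v ∈ V := by
      have h1 := hull_cj (v := n⁻¹ * v * n) hn (hV₀V hv)
      have e : n * (n⁻¹ * v * n) * n⁻¹ = v := by group
      rwa [e] at h1
    have hvP := hVP hvV
    have hst := hl.star v (hPS hvP) (hPz hvP) (hV2 v hvV) t htl htD htv
    have hv2 : orderOf v = 2 := orderOf_eq_prime (by rw [pow_two]; exact hV2 v hvV) hv1
    refine line_le ht he hBK (hB n) (hfr n hn hnM) (hmax n hn hnM) hS hPS hD hlS ?_ hl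
    intro x hx
    refine (ht.cj n).mem ?_ hv2 (hst x hx)
    rw [centralizer_cj, mem_cj]
    exact hv.2.1
  -- semiregularity
  have semi : ∀ n ∈ N, n ∉ M → ∀ s ∈ l, n⁻¹ * s * n ∈ M → ∀ v ∈ V, s * v = v * s := by
    intro n hn hnM s hs hns
    by_cases hsD : s ∈ D
    · exact fun v hv => hPV s (hD hsD) v hv
    · exfalso
      have hA : cj n V₀ ≤ P := by
        intro x hx
        have h1 := hcjP n hn _ (mem_cj.mp hx).1
        have e : n * (n⁻¹ * x * n) * n⁻¹ = x := by group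
        rwa [e] at h1
      have hT' : cj n V₀ ⊔ zpowers s ≤ S := sup_le (hA.trans hPS) (by rw [zpowers_le]; exact (hlS hs).1)
      have hsN : zpowers s ≤ normalizer ((cj n V₀ : Subgroup G) : Set G) := by
        rw [zpowers_le]
        apply mem_normalizer_fintype
        intro x hx
        show s * x * s⁻¹ ∈ cj n V₀
        have hx' : n⁻¹ * x * n ∈ V₀ := mem_cj.mp hx
        rw [mem_cj]
        have h1 := hVN (n⁻¹ * s * n) (mul_mem (mul_mem (inv_mem hn) (hlN hs)) hn) hns _ hx'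
        have e : n⁻¹ * s * n * (n⁻¹ * x * n) * (n⁻¹ * s * n)⁻¹ = n⁻¹ * (s * x * s⁻¹) * n := by group
        rwa [e] at h1
      have hTn : cj n V₀ ⊔ zpowers s ≤ normalizer ((cj n V₀ : Subgroup G) : Set G) := sup_le le_normalizer hsN
      obtain ⟨v, -, hvA, hv2, hvc⟩ := exists_central_involution (S := cj n V₀ ⊔ zpowers s) (N := cj n V₀)
        (hS.two.to_le hT') (by
          intro y hy x hx
          exact (mem_normalizer_iff.mp (hTn hy) x).mp hx)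
        ⟨n * z * n⁻¹, mem_sup_left (mem_cj_mul hz), mem_cj_mul hz, by
          intro h1
          apply hz1
          have h2 : z = n⁻¹ * (n * z * n⁻¹) * n := by group
          rw [h2, h1]; group⟩
      refine key n hn hnM v (mem_cj.mp hvA) ?_ s hs hsD (hvc s (mem_sup_right (mem_zpowers s)))
      rintro rfl
      rw [orderOf_one] at hv2; exact absurd hv2 (by norm_num)
  -- elements outside `D` act nontrivially
  have hnt : ∀ t ∈ l, t ∉ D → ∃ v ∈ V, t * v ≠ v * t := by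
    intro t htl htD
    by_contra hcon
    push Not at hcon
    have hv : n₀⁻¹ * (n₀ * z * n₀⁻¹) * n₀ ∈ V₀ := by
      have e : n₀⁻¹ * (n₀ * z * n₀⁻¹) * n₀ = z := by group
      rw [e]; exact hz
    refine key n₀ hn₀ hn₀M _ hv ?_ t htl htD (hcon _ (hull_cj hn₀ (hV₀V hz)))
    intro h1
    apply hz1
    have h2 : z = n₀⁻¹ * (n₀ * z * n₀⁻¹) * n₀ := by group
    rw [h2, h1]; group
  -- commutators
  have hbr : ∀ v ∈ V, ∀ x ∈ l, v * x * v⁻¹ * x⁻¹ ∈ V := by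
    intro v hv x hx
    have e : v * x * v⁻¹ * x⁻¹ = v * (x * v⁻¹ * x⁻¹) := by group
    rw [e]
    exact mul_mem hv (hull_cj (hlN hx) (inv_mem hv))
  have hsq : ∀ x ∈ l, ∀ v ∈ V, x * x * v = v * (x * x) := fun x hx v hv => hPV _ (hD (hl.sq x hx)) v hv
  have hself : ∀ v ∈ V, ∀ x ∈ l, x * (v * x * v⁻¹ * x⁻¹) = (v * x * v⁻¹ * x⁻¹) * x := by
    intro v hv x hx
    have hvv := hV2 v hv
    have e1 : v⁻¹ = v := inv_eq_of_mul_eq_one_right hvv
    have h4 : x * v * x⁻¹ * v = v * (x * v * x⁻¹) := hab _ (hull_cj (hlN hx) hv) v hv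
    have h5 := hsq x hx v hv
    have h6 : x * (x * v * x⁻¹) * x⁻¹ = v := by
      calc x * (x * v * x⁻¹) * x⁻¹ = x * x * v * (x * x)⁻¹ := by group
        _ = v := by rw [h5]; group
    rw [e1]
    calc x * (v * x * v * x⁻¹) = x * v * x⁻¹ * (x * (x * v * x⁻¹) * x⁻¹) * x := by group
      _ = x * v * x⁻¹ * v * x := by rw [h6]
      _ = v * (x * v * x⁻¹) * x := by rw [h4]
      _ = v * x * v * x⁻¹ * x := by group
  have hquad : ∀ v ∈ V, ∀ x ∈ l, ∀ x' ∈ l,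
      x' * (v * x * v⁻¹ * x⁻¹) = (v * x * v⁻¹ * x⁻¹) * x' := by
    intro v hv x hx x' hx'
    by_cases hxD : x ∈ D
    · have h1 : v * x * v⁻¹ * x⁻¹ = 1 := by
        rw [← hPV x (hD hxD) v hv]; group
      rw [h1]; simp
    · have hw := hbr v hv x hx
      exact hl.star _ (hPS (hVP hw)) (hPz (hVP hw)) (hV2 _ hw) x hx hxD (hself v hv x hx) x' hx'
  have hCM : ∀ n ∈ N, (∀ v ∈ V, n * v = v * n) → n ∈ M := by
    intro n _ hnc
    exact ht.mem hzC hz2 (hnc z (hV₀V hz))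
  obtain ⟨a, ha, b, hb, haD, hbD, habD⟩ := hl.pair
  have hact : ∀ w ∈ V, a * b * w * (a * b)⁻¹ = b * a * w * (b * a)⁻¹ := by
    intro w hw
    have h1 : a * b * (a * b) * w = w * (a * b * (a * b)) := hsq _ (mul_mem ha hb) w hw
    have h4 : a * b * (b * a * w * (b * a)⁻¹) * (a * b)⁻¹ = w := by
      have h5 : a * w * a⁻¹ ∈ V := hull_cj (hlN ha) hw
      calc a * b * (b * a * w * (b * a)⁻¹) * (a * b)⁻¹ = a * (b * b * (a * w * a⁻¹) * (b * b)⁻¹) * a⁻¹ := by group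
        _ = a * (a * w * a⁻¹) * a⁻¹ := by rw [hsq b hb _ h5]; group
        _ = a * a * w * (a * a)⁻¹ := by group
        _ = w := by rw [hsq a ha w hw]; group
    have h6 : a * b * (a * b * w * (a * b)⁻¹) * (a * b)⁻¹ = w := by
      calc a * b * (a * b * w * (a * b)⁻¹) * (a * b)⁻¹ = a * b * (a * b) * w * (a * b * (a * b))⁻¹ := by group
        _ = w := by rw [h1]; group
    have h7 : a * b * (a * b * w * (a * b)⁻¹) * (a * b)⁻¹ = a * b * (b * a * w * (b * a)⁻¹) * (a * b)⁻¹ := by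
      rw [h6, h4]
    exact mul_left_cancel (mul_right_cancel h7)
  have htr : ∀ v ∈ V, ∃ a ∈ l, ∃ b ∈ l,
      (∀ w ∈ V, a * a * w = w * (a * a)) ∧ (∀ w ∈ V, b * b * w = w * (b * b)) ∧
      (∀ w ∈ V, a * b * w * (a * b)⁻¹ = b * a * w * (b * a)⁻¹) ∧
      (∃ w ∈ V, a * w ≠ w * a) ∧ (∃ w ∈ V, b * w ≠ w * b) ∧
      (∃ w ∈ V, a⁻¹ * b * w ≠ w * (a⁻¹ * b)) ∧
      v * (a * v * a⁻¹) * (b * v * b⁻¹) * (a * b * v * (a * b)⁻¹) = 1 := by
    intro v hv
    refine ⟨a, ha, b, hb, hsq a ha, hsq b hb, hact, hnt a ha haD, hnt b hb hbD,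
      hnt _ (mul_mem (inv_mem ha) hb) habD, ?_⟩
    have hvv := hV2 v hv
    have e1 : v⁻¹ = v := inv_eq_of_mul_eq_one_right hvv
    have h5 : b * (v * a * v⁻¹ * a⁻¹) = v * a * v⁻¹ * a⁻¹ * b := hquad v hv a ha b hb
    rw [e1] at h5
    have h6 : (v * a * v * a⁻¹) * (v * a * v * a⁻¹) = 1 := by
      have h7 := hV2 _ (hbr v hv a ha)
      rwa [e1] at h7
    have hba : (b * v * b⁻¹) * (a * b * v * (a * b)⁻¹) = b * (v * (a * v * a⁻¹)) * b⁻¹ := by
      rw [hact v hv]; group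
    rw [mul_assoc (v * (a * v * a⁻¹)), hba]
    calc v * (a * v * a⁻¹) * (b * (v * (a * v * a⁻¹)) * b⁻¹)
        = (v * a * v * a⁻¹) * (b * (v * a * v * a⁻¹)) * b⁻¹ := by group
      _ = (v * a * v * a⁻¹) * (v * a * v * a⁻¹ * b) * b⁻¹ := by rw [h5]
      _ = (v * a * v * a⁻¹) * (v * a * v * a⁻¹) := by group
      _ = 1 := h6
  -- the hull is inner
  have hin : V ≤ innerIn K V := by
    refine hull_le_of_trace (M := M) (T := l) hab hCM ?_ ?_ hlN hlM semi htr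
    · intro x hx
      exact ⟨hV₀V hx, Inner.of_C hx.2.1⟩
    · intro n hn hnM v hv
      have hv' : n * v * n⁻¹ ∈ V := hull_cj hn hv
      refine ⟨mul_mem (inv_mem hv) hv', ?_⟩
      rcases hBK.graph S hS v (hPS (hVP hv)) (n * v * n⁻¹) (hPS (hVP hv')) (hPz (hVP hv)) (hPz (hVP hv'))
        with h1 | h1 | h1
      · exact h1.inv.mul (h1.conj normalizer_norm hnM)
      · have h2 : Inner K v := by
          have h3 := h1.conj normalizer_norm (inv_mem hnM)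
          have e : n⁻¹ * (n * v * n⁻¹) * n⁻¹⁻¹ = v := by group
          rwa [e] at h3
        exact h2.inv.mul h1
      · exact h1
  refine hull_falseR (K := K) (M := M) (N := N) (V₀ := V₀) (T := l)
    ?_ hcen hKM hV2 hab hCM hVN ?_ ?_ hlK hlN hlM hl2 semi htr
  · intro x hx k hk
    exact hcomm k hk x hx.2.1
  · intro n hn v hv
    have h1 := hVZ _ (hull_cj (v := v) hn (hV₀V hv))
    obtain ⟨c, hc, k, hk, hck⟩ := (hin (hull_cj (v := v) hn (hV₀V hv))).2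
    rw [hck] at h1
    exact ⟨c, comp_omegaZ ht hcen hQ inf_le_left hPM hc hk h1.1 h1.2.1 h1.2.2, k, hk, hck⟩
  · refine ⟨n₀, hn₀, z, hz, ?_⟩
    intro h1
    exact hn₀M (ht.tight n₀ z hzC hz2 h1.2.1)

end Cfsg.Agent.OddHalf.D4.Free
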