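import Mathlib
import Cfsg.Agent.OddHalf.D4.Free.Max
import Cfsg.Agent.OddHalf.D4.Free.Exist

/-!
# ODD, D4, (1B): the free pair theorem

`no_fullPair`: `K` tight, `K ∩ C(K) = 1`, `m_2(C(K)) ≥ 2`, `BFacts` for all conjugates of `K`, no full pair `(K, L)` has
a Sylow 2-subgroup of `K` in `N(L)`. Then there is no full pair.
-/

set_option autoImplicit false

namespace Cfsg.Agent.OddHalf.D4.Free

open Cfsg Subgroup Cfsg.Agent.OddHalf.D4 Cfsg.Agent.OddHalf.D4.Basic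
open Cfsg.Agent.OddHalf.D4.CommConj (Tight cj mem_cj cj_mul card_cj mem_cj_mul exists_central_involution
  cj_eq_of_mem_normalizer mem_normalizer_of_cj_eq)

variable {G : Type*} [Group G] [Finite G] {K : Subgroup G}

omit [Finite G] in
theorem cen_cj (hcen : ∀ x ∈ K, x ∈ centralizer (K : Set G) → x = 1) (g : G) :
    ∀ x ∈ cj g K, x ∈ centralizer ((cj g K : Subgroup G) : Set G) → x = 1 := by
  intro x hx hxc
  rw [centralizer_cj] at hxc
  have h1 := hcen _ (mem_cj.mp hx) (mem_cj.mp hxc)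
  calc x = g * (g⁻¹ * x * g) * g⁻¹ := by group
    _ = 1 := by rw [h1]; group

/-- a free pair gives a full pair -/
theorem full_of_free {g₁ g₂ : G} {P : Subgroup G} (ht : TightAt K) (hne : cj g₁ K ≠ cj g₂ K)
    (h : FreePair (cj g₁ K) (cj g₂ K) P) : FullPair (cj g₁ K) (cj g₂ K)
      (P ⊓ centralizer ((cj g₁ K : Subgroup G) : Set G)) (P ⊓ centralizer ((cj g₂ K : Subgroup G) : Set G)) := by
  have hL : cj g₂ K = cj (g₂ * g₁⁻¹) (cj g₁ K) := by
    rw [← cj_mul]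
    congr 1
    group
  have hn : g₂ * g₁⁻¹ ∉ normalizer ((cj g₁ K : Subgroup G) : Set G) := by
    intro h1
    apply hne
    rw [hL, cj_eq_of_mem_normalizer h1]
  have ht₁ := ht.cj g₁
  have ht₂ := ht.cj g₂
  refine ⟨⟨_, hn, hL⟩, h.sylK, h.sylL, ?_⟩
  intro q hq u hu
  by_contra hqu
  have h4 : q * u * q⁻¹ * u⁻¹ ∈ (P ⊓ centralizer ((cj g₁ K : Subgroup G) : Set G)) ⊓
      (P ⊓ centralizer ((cj g₂ K : Subgroup G) : Set G)) := by
    have hP : q * u * q⁻¹ * u⁻¹ ∈ P := P.mul_mem (P.mul_mem (P.mul_mem hq.1 hu.1) (P.inv_mem hq.1)) (P.inv_mem hu.1)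
    refine ⟨⟨hP, ?_⟩, hP, ?_⟩
    · have e : q * u * q⁻¹ * u⁻¹ = q * (u * q⁻¹ * u⁻¹) := by group
      rw [e]
      exact mul_mem hq.2 (ht₁.norm u (h.frK.le hu.1) _ (inv_mem hq.2))
    · exact (centralizer ((cj g₂ K : Subgroup G) : Set G)).mul_mem (ht₂.norm q (h.frL.le hq.1) _ hu.2)
        ((centralizer ((cj g₂ K : Subgroup G) : Set G)).inv_mem hu.2)
  have h5 : q * u * q⁻¹ * u⁻¹ ≠ 1 := by
    intro h6
    apply hqu
    calc q * u = q * u * q⁻¹ * u⁻¹ * (u * q) := by group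
      _ = u * q := by rw [h6, one_mul]
  obtain ⟨z, hz, hzN, hz2, -⟩ := exists_central_involution
    (S := (P ⊓ centralizer ((cj g₁ K : Subgroup G) : Set G)) ⊓ (P ⊓ centralizer ((cj g₂ K : Subgroup G) : Set G)))
    (N := (P ⊓ centralizer ((cj g₁ K : Subgroup G) : Set G)) ⊓ (P ⊓ centralizer ((cj g₂ K : Subgroup G) : Set G)))
    (h.frK.two.to_le (inf_le_left.trans inf_le_left))
    (fun s hs n hn => mul_mem (mul_mem hs hn) (inv_mem hs)) ⟨_, h4, h4, h5⟩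
  refine hn (ht₁.eq hz.1.2 hz2 ?_)
  rw [← hL]
  exact hz.2.2

/-- **(1B): the free pair theorem.** -/
theorem no_fullPair (ht : TightAt K) (hcen : ∀ x ∈ K, x ∈ centralizer (K : Set G) → x = 1) (hr : Rk2 K)
    (hB : ∀ g : G, BFacts (cj g K)) (hin : Inp K) {L Q U : Subgroup G} (hp : FullPair K L Q U) : False := by
  classical
  have he : Even (Nat.card ↥(centralizer (K : Set G))) := by
    obtain ⟨a, b, ha, hb, ha2, -⟩ := hr
    have h1 : orderOf (⟨a, ha⟩ : ↥(centralizer (K : Set G))) = 2 := by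
      rw [← ha2]; exact Subgroup.orderOf_mk a ha
    have h2 := orderOf_dvd_natCard (⟨a, ha⟩ : ↥(centralizer (K : Set G)))
    rw [h1] at h2
    exact even_iff_two_dvd.mpr h2
  have heg : ∀ g : G, Even (Nat.card ↥(centralizer ((cj g K : Subgroup G) : Set G))) := by
    intro g
    rw [centralizer_cj, card_cj]; exact he
  obtain ⟨g₁', g₂', P', hne', hP'⟩ := exists_free ht he hcen hr hB hin hp
  -- a maximal free pair
  let 𝓟 : Set (G × G × Subgroup G) := {x | cj x.1 K ≠ cj x.2.1 K ∧ FreePair (cj x.1 K) (cj x.2.1 K) x.2.2}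
  have hne𝓟 : Nonempty 𝓟 := ⟨⟨(g₁', g₂', P'), hne', hP'⟩⟩
  have hfin : Finite 𝓟 := inferInstance
  obtain ⟨⟨⟨g₁, g₂, P⟩, hne, hP⟩, hmax⟩ := Finite.exists_max (fun x : 𝓟 => Nat.card ↥(x.1.2.2))
  have hmax' : ∀ h₁ h₂ : G, ∀ P₁ : Subgroup G, cj h₁ K ≠ cj h₂ K → FreePair (cj h₁ K) (cj h₂ K) P₁ → P ≤ P₁ →
      P₁ ≤ P := by
    intro h₁ h₂ P₁ hh hP₁ hle
    have h1 : Nat.card ↥P₁ ≤ Nat.card ↥P := hmax ⟨(h₁, h₂, P₁), hh, hP₁⟩
    exact (eq_of_le_of_card_ge hle h1).ge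
  -- the contradiction if `N(P)` does not normalize the first group
  have main : ∀ g₁ g₂ : G, cj g₁ K ≠ cj g₂ K → FreePair (cj g₁ K) (cj g₂ K) P →
      normalizer (P : Set G) ≤ normalizer ((cj g₁ K : Subgroup G) : Set G) := by
    intro g₁ g₂ hne hP
    by_contra hcon
    rw [SetLike.not_le_iff_exists] at hcon
    obtain ⟨S, hS, hPS⟩ := exists_good hP.frK.two hP.frK.le
    have hSP : ¬ S ⊓ cj g₁ K ≤ P := by
      intro hle
      exact (hin.cj g₁) _ _ _ (full_of_free ht hne hP) _ hS.syl (hle.trans hP.frL.le)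
    have hcjP : ∀ n ∈ normalizer (P : Set G), cj n P = P := fun n hn => cj_eq_of_mem_normalizer hn
    refine false_of_max (K := cj g₁ K) (P := P) (ht.cj g₁) (heg g₁) (cen_cj hcen g₁) (hB g₁) ?_ ?_ ?_ ?_ hS hPS hSP
    · intro g
      rw [← cj_mul]
      exact hB _
    · intro n hn hnM
      have h' := hP.cj n
      rw [hcjP n hn] at h'
      exact ⟨hP.frK, h'.frK, hP.sylK, h'.sylK, hP.zK, h'.zK⟩
    · intro n hn hnM P₁ hP₁ hle
      rw [← cj_mul] at hP₁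
      refine hmax' g₁ (n * g₁) P₁ ?_ hP₁ hle
      intro h1
      apply hnM
      apply mem_normalizer_of_cj_eq
      rw [← cj_mul, ← h1]
    · obtain ⟨n, hn, hnM⟩ := hcon
      exact ⟨n, hn, hnM⟩
  -- the line normalizes the second group
  obtain ⟨S, hS, hPS⟩ := exists_good hP.frK.two hP.frK.le
  have hSP : ¬ S ⊓ cj g₁ K ≤ P := by
    intro hle
    exact (hin.cj g₁) _ _ _ (full_of_free ht hne hP) _ hS.syl (hle.trans hP.frL.le)
  obtain ⟨D, hD, l, hlS, hlN, hlP, hl⟩ := (hB g₁).line S hS P hPS (hP.frK.le_cz (hB g₁) hS hPS) hSP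
  exact hlP (line_le (ht.cj g₁) (heg g₁) (hB g₁) (hB g₂) hP
    (fun P₁ hP₁ hle => hmax' g₁ g₂ P₁ hne hP₁ hle) hS hPS hD hlS
    (hlN.trans (main g₂ g₁ hne.symm hP.symm)) hl)

end Cfsg.Agent.OddHalf.D4.Free
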