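import Mathlib
import Cfsg.Agent.OddHalf.D4.Free.Defs

/-!
# ODD, D4, (1B): the fact (k2) of `BFacts` holds for every `K`

`field_free` : `S`, `S₁` good, `e ∈ S₁` centralizes `Z(S ∩ K)`: then `e` centralizes `Z(S₁ ∩ K)`.
-/

set_option autoImplicit false

namespace Cfsg.Agent.OddHalf.D4.Free

open Cfsg Subgroup Cfsg.Agent.OddHalf.D4 Cfsg.Agent.OddHalf.D4.Basic
open Cfsg.Agent.OddHalf.D4.CommConj (Tight cj mem_cj cj_mul card_cj mem_cj_mul cj_eq_of_mem_normalizer)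

variable {G : Type*} [Group G]

/-- Sylow subgroups are conjugate. -/
theorem exists_cj_eq [Finite G] {T T' M : Subgroup G} (h : IsSyl T M) (h' : IsSyl T' M) :
    ∃ m ∈ M, cj m T = T' := by
  obtain ⟨m, hm, hq⟩ := h'.conj_into h.two h.le
  refine ⟨m, hm, le_antisymm ?_ ?_⟩
  · intro x hx
    have h1 := hq _ (mem_cj.mp hx)
    have h2 : m * (m⁻¹ * x * m) * m⁻¹ = x := by group
    rwa [h2] at h1
  · have h1 : cj m⁻¹ T' ≤ T := by
      apply h.max
      · exact h'.two.map _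
      · intro x hx
        rw [mem_cj, inv_inv]
        exact hq x hx
      · intro x hx
        rw [mem_cj, inv_inv] at hx
        have h2 := M.mul_mem (M.mul_mem (M.inv_mem hm) (h'.le hx)) hm
        have h3 : m⁻¹ * (m * x * m⁻¹) * m = x := by group
        rwa [h3] at h2
    intro x hx
    rw [mem_cj]
    apply h1
    rw [mem_cj, inv_inv]
    have h3 : m * (m⁻¹ * x * m) * m⁻¹ = x := by group
    rwa [h3]

/-- A 2-element of `M` normalizing a Sylow 2-subgroup of `M` lies in it. -/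
theorem mem_of_norm [Finite G] {U M : Subgroup G} (hU : IsSyl U M) {x : G} (hx : x ∈ M)
    (hn : x ∈ normalizer (U : Set G)) {k : ℕ} (hk : x ^ 2 ^ k = 1) : x ∈ U := by
  have h1 : IsPGroup 2 ↥(zpowers x) := by
    have h2 : orderOf x ∣ 2 ^ k := orderOf_dvd_of_pow_eq_one hk
    obtain ⟨j, -, hj⟩ := (Nat.dvd_prime_pow Nat.prime_two).mp h2
    rw [IsPGroup.iff_card]
    exact ⟨j, by rw [Nat.card_zpowers, hj]⟩
  have h2 : IsPGroup 2 ↥(zpowers x ⊔ U) := h1.to_sup_of_normal_right' hU.two (by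
    rw [zpowers_le]; exact hn)
  exact hU.max _ h2 le_sup_right (sup_le (by rw [zpowers_le]; exact hx) hU.le)
    (mem_sup_left (mem_zpowers x))

theorem act_pow {Z : Subgroup G} {e b : G} (hZb : ∀ z ∈ Z, b * z * b⁻¹ ∈ Z)
    (h : ∀ z ∈ Z, e⁻¹ * z * e = b * z * b⁻¹) (j : ℕ) :
    ∀ z ∈ Z, (e ^ j)⁻¹ * z * e ^ j = b ^ j * z * (b ^ j)⁻¹ := by
  induction j with
  | zero => intro z _; simp
  | succ j ih =>
    intro z hz
    calc (e ^ (j + 1))⁻¹ * z * e ^ (j + 1) = (e ^ j)⁻¹ * (e⁻¹ * z * e) * e ^ j := by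
          rw [pow_succ' e j]; group
      _ = (e ^ j)⁻¹ * (b * z * b⁻¹) * e ^ j := by rw [h z hz]
      _ = b ^ j * (b * z * b⁻¹) * (b ^ j)⁻¹ := ih _ (hZb z hz)
      _ = _ := by rw [pow_succ b j]; group

/-- **(k2)** -/
theorem field_free [Finite G] {K S S₁ : Subgroup G} (hS : Good K S) (hS₁ : Good K S₁) {e : G} (he : e ∈ S₁)
    (hez : e ∈ cz K S) : e ∈ cz K S₁ := by
  obtain ⟨k₀, hk₀⟩ := hS₁.two ⟨e, he⟩
  have hk₀' : e ^ 2 ^ k₀ = 1 := congrArg Subtype.val hk₀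
  have heN := hS₁.le he
  set H : Subgroup G := normalizer (K : Set G) ⊓ cz K S with hH
  have heP : IsPGroup 2 ↥(zpowers e) := hS₁.two.to_le (by rw [zpowers_le]; exact he)
  obtain ⟨T, hT, heT⟩ := exists_isSyl (M := H) heP (by rw [zpowers_le]; exact ⟨heN, hez⟩)
  have heT' : e ∈ T := heT (mem_zpowers e)
  have hSH : S ⊓ K ≤ H ⊓ K := le_inf (le_inf (inf_le_left.trans hS.le) inf_le_cz) inf_le_right
  have hTN : T ≤ normalizer ((H ⊓ K : Subgroup G) : Set G) := by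
    intro t ht
    have htH := hT.le ht
    rw [mem_normalizer_iff]
    intro x
    have h1 : x ∈ H ↔ t * x * t⁻¹ ∈ H := by
      constructor
      · intro hx; exact H.mul_mem (H.mul_mem htH hx) (H.inv_mem htH)
      · intro hx
        have h2 := H.mul_mem (H.mul_mem (H.inv_mem htH) hx) htH
        have h3 : t⁻¹ * (t * x * t⁻¹) * t = x := by group
        rwa [h3] at h2
    have h2 := mem_normalizer_iff.mp htH.1 x
    show (x ∈ H ∧ x ∈ K) ↔ (t * x * t⁻¹ ∈ H ∧ t * x * t⁻¹ ∈ K)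
    rw [← h1]
    exact and_congr Iff.rfl h2
  have h1 : IsSyl (T ⊓ (H ⊓ K)) (H ⊓ K) := hT.inf inf_le_left hTN
  have h2 : IsSyl (S ⊓ K) (H ⊓ K) := hS.syl.mono hSH inf_le_right
  obtain ⟨m, hm, hmT⟩ := exists_cj_eq h2 h1
  have hTK : T ⊓ (H ⊓ K) = T ⊓ K := by
    apply le_antisymm
    · exact inf_le_inf_left T inf_le_right
    · exact le_inf inf_le_left (le_inf (inf_le_left.trans hT.le) inf_le_right)
  rw [hTK] at hmT
  have hmK : m ∈ K := hm.2
  have hcjK : ∀ m ∈ K, cj m K = K := fun m hm => cj_eq_of_mem_normalizer (le_normalizer hm)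
  have hTsyl : IsSyl (T ⊓ K) K := by
    have h3 := hS.syl.cj m
    rwa [hmT, hcjK m hmK] at h3
  obtain ⟨k, hk, hkT⟩ := exists_cj_eq hTsyl hS₁.syl
  -- `Z₁ = k m Z m⁻¹ k⁻¹ = k Z k⁻¹`
  have hzT : ∀ z ∈ zc K S₁, k⁻¹ * z * k ∈ zc K S := by
    intro z hz
    have h3 : cj (k * m) (S ⊓ K) = S₁ ⊓ K := by rw [cj_mul, hmT, hkT]
    have h4 : (k * m)⁻¹ * z * (k * m) ∈ zc K S := by
      rw [mem_zc] at hz ⊢
      have h5 : z ∈ cj (k * m) (S ⊓ K) := by rw [h3]; exact hz.1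
      refine ⟨mem_cj.mp h5, fun u hu => ?_⟩
      have h6 : k * m * u * (k * m)⁻¹ ∈ S₁ ⊓ K := by rw [← h3]; exact mem_cj_mul hu
      have h7 := hz.2 _ h6
      calc u * ((k * m)⁻¹ * z * (k * m)) = (k * m)⁻¹ * (k * m * u * (k * m)⁻¹ * z) * (k * m) := by group
        _ = (k * m)⁻¹ * (z * (k * m * u * (k * m)⁻¹)) * (k * m) := by rw [h7]
        _ = _ := by group
    have h5 := mem_cz.mp (hm.1.2 : m ∈ cz K S) _ h4
    have h6 : k⁻¹ * z * k = (k * m)⁻¹ * z * (k * m) := by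
      calc k⁻¹ * z * k = m * ((k * m)⁻¹ * z * (k * m)) * m⁻¹ := by group
        _ = ((k * m)⁻¹ * z * (k * m)) * m * m⁻¹ := by rw [h5]
        _ = _ := by group
    rw [h6]; exact h4
  -- the element `b`
  set b : G := e⁻¹ * (k * e * k⁻¹) with hb
  have hbK : b ∈ K := by
    have h3 : b = (e⁻¹ * k * e) * k⁻¹ := by rw [hb]; group
    rw [h3]
    exact K.mul_mem ((mem_normalizer_iff''.mp heN k).mp hk) (K.inv_mem hk)
  have hnU : ∀ x ∈ S₁, x ∈ normalizer ((S₁ ⊓ K : Subgroup G) : Set G) := by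
    intro x hx
    rw [mem_normalizer_iff]
    intro y
    have h3 := mem_normalizer_iff.mp (hS₁.le hx) y
    constructor
    · rintro ⟨h4, h5⟩
      exact ⟨S₁.mul_mem (S₁.mul_mem hx h4) (S₁.inv_mem hx), h3.mp h5⟩
    · rintro ⟨h4, h5⟩
      refine ⟨?_, h3.mpr h5⟩
      have h6 := S₁.mul_mem (S₁.mul_mem (S₁.inv_mem hx) h4) hx
      have h7 : x⁻¹ * (x * y * x⁻¹) * x = y := by group
      rwa [h7] at h6
  have heT2 : k * e * k⁻¹ ∈ normalizer ((S₁ ⊓ K : Subgroup G) : Set G) := by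
    have h3 : e ∈ normalizer ((T ⊓ K : Subgroup G) : Set G) := by
      rw [mem_normalizer_iff]
      intro y
      have h3 := mem_normalizer_iff.mp heN y
      constructor
      · rintro ⟨h4, h5⟩
        exact ⟨T.mul_mem (T.mul_mem heT' h4) (T.inv_mem heT'), h3.mp h5⟩
      · rintro ⟨h4, h5⟩
        refine ⟨?_, h3.mpr h5⟩
        have h6 := T.mul_mem (T.mul_mem (T.inv_mem heT') h4) heT'
        have h7 : e⁻¹ * (e * y * e⁻¹) * e = y := by group
        rwa [h7] at h6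
    rw [← hkT, mem_normalizer_iff]
    intro y
    rw [mem_cj, mem_cj]
    have h4 := mem_normalizer_iff.mp h3 (k⁻¹ * y * k)
    have h5 : k⁻¹ * (k * e * k⁻¹ * y * (k * e * k⁻¹)⁻¹) * k = e * (k⁻¹ * y * k) * e⁻¹ := by group
    rw [h5]
    exact h4
  have hbN : b ∈ normalizer ((S₁ ⊓ K : Subgroup G) : Set G) :=
    mul_mem (inv_mem (hnU e he)) heT2
  have hbZ : ∀ z ∈ zc K S₁, b * z * b⁻¹ ∈ zc K S₁ := by
    intro z hz
    rw [mem_zc] at hz ⊢
    refine ⟨(mem_normalizer_iff.mp hbN z).mp hz.1, fun u hu => ?_⟩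
    have h3 := hz.2 _ ((mem_normalizer_iff''.mp hbN u).mp hu)
    calc u * (b * z * b⁻¹) = b * (b⁻¹ * u * b * z) * b⁻¹ := by group
      _ = b * (z * (b⁻¹ * u * b)) * b⁻¹ := by rw [h3]
      _ = b * z * b⁻¹ * u := by group
  have hact : ∀ z ∈ zc K S₁, e⁻¹ * z * e = b * z * b⁻¹ := by
    intro z hz
    have h3 := mem_cz.mp hez _ (hzT z hz)
    have h4 : (k * e * k⁻¹) * z * (k * e * k⁻¹)⁻¹ = z := by
      calc (k * e * k⁻¹) * z * (k * e * k⁻¹)⁻¹ = k * (e * (k⁻¹ * z * k)) * e⁻¹ * k⁻¹ := by group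
        _ = k * ((k⁻¹ * z * k) * e) * e⁻¹ * k⁻¹ := by rw [h3]
        _ = z := by group
    calc e⁻¹ * z * e = e⁻¹ * ((k * e * k⁻¹) * z * (k * e * k⁻¹)⁻¹) * e := by rw [h4]
      _ = b * z * b⁻¹ := by rw [hb]; group
  -- an odd power of `b` lies in `S₁ ∩ K`
  obtain ⟨s, r, hr, hsr⟩ := Nat.exists_eq_two_pow_mul_odd (orderOf_pos b).ne'
  have hbr : b ^ r ∈ S₁ ⊓ K := by
    refine mem_of_norm hS₁.syl (K.pow_mem hbK r) (pow_mem hbN r) (k := s) ?_
    rw [← pow_mul, mul_comm, ← hsr, pow_orderOf_eq_one]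
  have her : ∀ z ∈ zc K S₁, z * e ^ r = e ^ r * z := by
    intro z hz
    have h3 := act_pow hbZ hact r z hz
    have h4 := (mem_zc.mp hz).2 _ hbr
    have h5 : b ^ r * z * (b ^ r)⁻¹ = z := by rw [h4]; group
    rw [h5] at h3
    calc z * e ^ r = e ^ r * ((e ^ r)⁻¹ * z * e ^ r) := by group
      _ = e ^ r * z := by rw [h3]
  have hcop : r.Coprime (orderOf e) := by
    have h3 : orderOf e ∣ 2 ^ k₀ := orderOf_dvd_of_pow_eq_one hk₀'
    refine Nat.Coprime.coprime_dvd_right h3 (Nat.Coprime.pow_right _ ?_)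
    exact Nat.coprime_two_right.mpr hr
  obtain ⟨j, hj⟩ := exists_pow_eq_self_of_coprime hcop
  rw [mem_cz]
  intro z hz
  have h3 : Commute z (e ^ r) := her z hz
  have h4 := h3.pow_right j
  rw [hj] at h4
  exact h4

end Cfsg.Agent.OddHalf.D4.Free
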