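import Mathlib
import Cfsg.Agent.OddHalf.D4.Free.AutFacts

/-!
# ODD, D4, (1B): (k1), (k4), (k5: c2) from a character `τ : Aut X → C`, `C` cyclic

`D ≤ C` is the group of those characters which are trivial on `Z(T)`: `FixZ T e ↔ τ e ∈ D` for the 2-elements in
question, `|D| ≤ 2`, and the 2-elements of the kernel are inner.
-/

set_option autoImplicit false

namespace Cfsg.Agent.OddHalf.D4.Free

open Cfsg Subgroup

/-- a cyclic group has at most one involution -/
theorem cyclic_or {C : Type*} [Group C] [Finite C] [IsCyclic C] {x y : C} (hx : x * x = 1) (hy : y * y = 1) :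
    x = 1 ∨ y = 1 ∨ x = y := by
  classical
  have := Fintype.ofFinite C
  by_contra hcon
  push Not at hcon
  obtain ⟨h1, h2, h3⟩ := hcon
  have h4 := IsCyclic.card_pow_eq_one_le (α := C) (n := 2) (by norm_num)
  have h5 : ({1, x, y} : Finset C) ⊆ Finset.univ.filter (fun a : C => a ^ 2 = 1) := by
    intro z hz
    rw [Finset.mem_insert, Finset.mem_insert, Finset.mem_singleton] at hz
    rw [Finset.mem_filter]
    refine ⟨Finset.mem_univ _, ?_⟩
    rcases hz with rfl | rfl | rfl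
    · simp
    · rw [pow_two, hx]
    · rw [pow_two, hy]
  have h6 := Finset.card_le_card h5
  have h7 : ({1, x, y} : Finset C).card = 3 := by
    rw [Finset.card_insert_of_notMem, Finset.card_pair h3]
    rw [Finset.mem_insert, Finset.mem_singleton]
    rintro (h | h)
    · exact h1 h.symm
    · exact h2 h.symm
  omega

variable {X : Type*} [Group X] {T : Sylow 2 X} {C : Type*} [CommGroup C] [Finite C] [IsCyclic C]

/-- (k1) -/
theorem cyc_of_char (τ : MulAut X →* C) (D : Subgroup C)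
    (h : ∀ A, GoodA T A → ∀ e ∈ A, (FixZ T e ↔ τ e ∈ D)) :
    ∀ A, GoodA T A → ∀ a ∈ A, ∀ b ∈ A, FixZ T (a * a) → FixZ T (b * b) →
      FixZ T a ∨ FixZ T b ∨ FixZ T (a⁻¹ * b) := by
  intro A hA a ha b hb haa hbb
  rw [h A hA _ (mul_mem ha ha)] at haa
  rw [h A hA _ (mul_mem hb hb)] at hbb
  rw [h A hA _ ha, h A hA _ hb, h A hA _ (mul_mem (inv_mem ha) hb)]
  have h1 : ((τ a : C) : C ⧸ D) * (τ a : C) = 1 := by
    rw [← QuotientGroup.mk_mul, QuotientGroup.eq_one_iff, ← map_mul]; exact haa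
  have h2 : ((τ b : C) : C ⧸ D) * (τ b : C) = 1 := by
    rw [← QuotientGroup.mk_mul, QuotientGroup.eq_one_iff, ← map_mul]; exact hbb
  have hcyc : IsCyclic (C ⧸ D) := isCyclic_of_surjective (QuotientGroup.mk' D) (QuotientGroup.mk'_surjective D)
  rcases cyclic_or h1 h2 with h3 | h3 | h3
  · exact Or.inl ((QuotientGroup.eq_one_iff _).mp h3)
  · exact Or.inr (Or.inl ((QuotientGroup.eq_one_iff _).mp h3))
  · right; right
    rw [QuotientGroup.eq] at h3
    rw [map_mul, map_inv]; exact h3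

/-- (k4) -/
theorem graph_of_char {C : Type*} [Group C] (τ : MulAut X →* C) (D : Subgroup C)
    (h : ∀ A, GoodA T A → ∀ e ∈ A, FixZ T e → τ e ∈ D)
    (hD : ∀ x ∈ D, ∀ y ∈ D, x = 1 ∨ y = 1 ∨ x = y)
    (hin : ∀ A, GoodA T A → ∀ e ∈ A, τ e = 1 → e ∈ (MulAut.conj : X →* MulAut X).range) :
    ∀ A, GoodA T A → ∀ a ∈ A, ∀ b ∈ A, FixZ T a → FixZ T b →
      a ∈ (MulAut.conj : X →* MulAut X).range ∨ b ∈ (MulAut.conj : X →* MulAut X).range ∨
        a⁻¹ * b ∈ (MulAut.conj : X →* MulAut X).range := by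
  intro A hA a ha b hb hfa hfb
  rcases hD _ (h A hA a ha hfa) _ (h A hA b hb hfb) with h1 | h1 | h1
  · exact Or.inl (hin A hA a ha h1)
  · exact Or.inr (Or.inl (hin A hA b hb h1))
  · right; right
    refine hin A hA _ (mul_mem (inv_mem ha) hb) ?_
    rw [map_mul, map_inv, h1, inv_mul_cancel]

/-- `|D| ≤ 2` -/
theorem or_of_card {C : Type*} [Group C] [Finite C] {D : Subgroup C} (hD : Nat.card ↥D ≤ 2) :
    ∀ x ∈ D, ∀ y ∈ D, x = 1 ∨ y = 1 ∨ x = y := by
  classical
  intro x hx y hy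
  by_contra hcon
  push Not at hcon
  obtain ⟨h1, h2, h3⟩ := hcon
  have h4 : ({1, x, y} : Set C) ⊆ (D : Set C) := by
    rintro z (rfl | rfl | rfl)
    · exact D.one_mem
    · exact hx
    · exact hy
  have h5 : ({1, x, y} : Set C).ncard ≤ (D : Set C).ncard := Set.ncard_le_ncard h4 (Set.toFinite _)
  have h6 : ({1, x, y} : Set C).ncard = 3 := by
    rw [Set.ncard_insert_of_notMem, Set.ncard_pair h3]
    rintro (h | h)
    · exact h1 h.symm
    · exact h2 h.symm
  have h7 : (D : Set C).ncard = Nat.card ↥D := rfl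
  omega

/-- (k5: c2) -/
theorem out_of_char {C : Type*} [Group C] (τ : MulAut X →* C) (D : Subgroup C)
    (h : ∀ A, GoodA T A → ∀ e ∈ A, τ e ∈ D → FixZ T e) (hD : ∀ x : C, x * x = 1 → x ∈ D) : OutA T := by
  refine Or.inr (Or.inl ?_)
  intro A hA e he hee
  refine h A hA e he (hD _ ?_)
  rw [← map_mul, hee, map_one]

end Cfsg.Agent.OddHalf.D4.Free
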